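import Mathlib

/-!
Groups covered by the conjugates of two proper subgroups; roots of irreducible polynomials in the algebra
generated by an endomorphism, and similarity of endomorphisms killed by one irreducible polynomial.
-/

set_option autoImplicit false

namespace CfsgLib.NormalCover

open Polynomial

/-- `G` is the union of the conjugates of two proper subgroups. -/
def Covered (G : Type*) [Group G] : Prop :=
  ∃ H K : Subgroup G, H ≠ ⊤ ∧ K ≠ ⊤ ∧ ∀ g : G, ∃ x : G, x * g * x⁻¹ ∈ H ∨ x * g * x⁻¹ ∈ K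

theorem covered_quotient {G : Type*} [Group G] (N : Subgroup G) [N.Normal] (H K : Subgroup G)
    (hH : H ≠ ⊤) (hK : K ≠ ⊤) (hNH : N ≤ H) (hNK : N ≤ K)
    (h : ∀ g : G, ∃ x : G, x * g * x⁻¹ ∈ H ∨ x * g * x⁻¹ ∈ K) : Covered (G ⧸ N) := by
  have key : ∀ L : Subgroup G, N ≤ L → L ≠ ⊤ → L.map (QuotientGroup.mk' N) ≠ ⊤ := by
    intro L hNL hL htop
    apply hL
    have h1 := congrArg (Subgroup.comap (QuotientGroup.mk' N)) htop
    rw [Subgroup.comap_top, Subgroup.comap_map_eq, QuotientGroup.ker_mk', sup_eq_left.mpr hNL] at h1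
    exact h1
  refine ⟨H.map (QuotientGroup.mk' N), K.map (QuotientGroup.mk' N), key H hNH hH, key K hNK hK, ?_⟩
  intro g
  obtain ⟨g, rfl⟩ := QuotientGroup.mk'_surjective N g
  obtain ⟨x, hx⟩ := h g
  refine ⟨QuotientGroup.mk' N x, ?_⟩
  rw [← map_inv, ← map_mul, ← map_mul]
  exact hx.imp (Subgroup.mem_map_of_mem _) (Subgroup.mem_map_of_mem _)

section roots

variable {F : Type*} [Field F]

theorem comp_pow_card [Fintype F] (f z : F[X]) :
    f.comp (z ^ Fintype.card F) = (f.comp z) ^ Fintype.card F := by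
  rw [← pow_comp f z, ← FiniteField.expand_card f, expand_eq_comp_X_pow, comp_assoc, X_pow_comp]

theorem comp_pow_card_pow [Fintype F] (f z : F[X]) (j : ℕ) :
    f.comp (z ^ Fintype.card F ^ j) = (f.comp z) ^ Fintype.card F ^ j := by
  induction j with
  | zero => simp
  | succ j ih => rw [pow_succ, pow_mul, comp_pow_card, ih, ← pow_mul]

/-- An irreducible `f` has a root modulo `m` when its degree divides those of all factors of `m`. -/
theorem exists_root_mod [Finite F] {f : F[X]} (hf : Irreducible f) {m : F[X]} (hm : m ≠ 0)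
    (h : ∀ π : F[X], Irreducible π → π ∣ m → f.natDegree ∣ π.natDegree) : ∃ z : F[X], m ∣ f.comp z := by
  haveI := Fintype.ofFinite F
  revert hm h
  refine UniqueFactorizationMonoid.induction_on_coprime
    (P := fun m : F[X] => m ≠ 0 → (∀ π : F[X], Irreducible π → π ∣ m → f.natDegree ∣ π.natDegree) →
      ∃ z : F[X], m ∣ f.comp z) m ?_ ?_ ?_ ?_
  · exact fun h0 => absurd rfl h0
  · exact fun hu _ _ => ⟨0, hu.dvd⟩
  · intro π i hπ _ h
    rcases Nat.eq_zero_or_pos i with rfl | hi
    · exact ⟨0, by simp⟩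
    haveI : Fact (Irreducible π) := ⟨hπ.irreducible⟩
    haveI : Fact (Irreducible f) := ⟨hf⟩
    haveI : Module.Finite F (AdjoinRoot π) := (AdjoinRoot.powerBasis hπ.ne_zero).finite
    haveI : Finite (AdjoinRoot π) := Module.finite_of_finite F
    have hd : Module.finrank F (AdjoinRoot f) ∣ Module.finrank F (AdjoinRoot π) := by
      rw [(AdjoinRoot.powerBasis hf.ne_zero).finrank, (AdjoinRoot.powerBasis hπ.ne_zero).finrank,
        AdjoinRoot.powerBasis_dim, AdjoinRoot.powerBasis_dim]
      exact h π hπ.irreducible (dvd_pow_self π hi.ne')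
    obtain ⟨φ⟩ := FiniteField.nonempty_algHom_of_finrank_dvd hd
    obtain ⟨z₀, hz₀⟩ := AdjoinRoot.mk_surjective (φ (AdjoinRoot.root f))
    have h0 : aeval (AdjoinRoot.mk π z₀) f = 0 := by
      rw [hz₀, Polynomial.aeval_algHom_apply, AdjoinRoot.aeval_eq, AdjoinRoot.mk_self, map_zero]
    have hd0 : π ∣ f.comp z₀ := by
      rw [← AdjoinRoot.mk_eq_zero]
      rw [← h0, comp_eq_aeval]
      exact (Polynomial.aeval_algHom_apply (AdjoinRoot.mkₐ π) z₀ f).symm
    refine ⟨z₀ ^ Fintype.card F ^ i, ?_⟩
    rw [comp_pow_card_pow]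
    exact (pow_dvd_pow π (Nat.lt_pow_self Fintype.one_lt_card).le).trans (pow_dvd_pow_of_dvd hd0 _)
  · intro a b hab iha ihb hm h
    obtain ⟨za, ha⟩ := iha (left_ne_zero_of_mul hm) fun π h1 h2 => h π h1 (h2.mul_right b)
    obtain ⟨zb, hb⟩ := ihb (right_ne_zero_of_mul hm) fun π h1 h2 => h π h1 (h2.mul_left a)
    obtain ⟨u, v, huv⟩ := hab.isCoprime
    refine ⟨za * (v * b) + zb * (u * a), hab.isCoprime.mul_dvd ?_ ?_⟩
    · have h1 : a ∣ (za * (v * b) + zb * (u * a)) - za := ⟨(zb - za) * u, by linear_combination za * huv⟩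
      have h2 := h1.trans (sub_dvd_eval_sub _ za (f.map C))
      rw [eval_map, eval_map] at h2
      exact (dvd_sub_left ha).mp h2
    · have h1 : b ∣ (za * (v * b) + zb * (u * a)) - zb := ⟨(za - zb) * v, by linear_combination zb * huv⟩
      have h2 := h1.trans (sub_dvd_eval_sub _ zb (f.map C))
      rw [eval_map, eval_map] at h2
      exact (dvd_sub_left hb).mp h2

/-- A root of `f` in the algebra generated by an algebraic element. -/
theorem exists_root_commute [Finite F] {f : F[X]} (hf : Irreducible f) {A : Type*} [Ring A] [Algebra F A]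
    (g : A) {m : F[X]} (hm : m ≠ 0) (hg : aeval g m = 0)
    (h : ∀ π : F[X], Irreducible π → π ∣ m → f.natDegree ∣ π.natDegree) :
    ∃ z : A, aeval z f = 0 ∧ Commute g z := by
  obtain ⟨z, c, hc⟩ := exists_root_mod hf hm h
  refine ⟨aeval g z, ?_, ?_⟩
  · rw [← aeval_comp, hc, map_mul, hg, zero_mul]
  · have := (Commute.all X z).map (aeval g)
    rwa [aeval_X] at this

/-- Endomorphisms killed by one irreducible polynomial are similar when the dimensions agree. -/
theorem exists_similar {f : F[X]} (hf : Irreducible f) {V W : Type*} [AddCommGroup V] [Module F V]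
    [FiniteDimensional F V] [AddCommGroup W] [Module F W] [FiniteDimensional F W] (s : Module.End F V)
    (t : Module.End F W) (hs : aeval s f = 0) (ht : aeval t f = 0)
    (hd : Module.finrank F V = Module.finrank F W) : ∃ e : V ≃ₗ[F] W, ∀ v, e (s v) = t (e v) := by
  haveI : Fact (Irreducible f) := ⟨hf⟩
  let φ : AdjoinRoot f →+* Module.End F V := Ideal.Quotient.lift _ (aeval s).toRingHom fun a ha => by
    obtain ⟨c, rfl⟩ := Ideal.mem_span_singleton.mp ha
    simp [hs]
  let ψ : AdjoinRoot f →+* Module.End F W := Ideal.Quotient.lift _ (aeval t).toRingHom fun a ha => by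
    obtain ⟨c, rfl⟩ := Ideal.mem_span_singleton.mp ha
    simp [ht]
  letI mV : Module (AdjoinRoot f) V := Module.compHom V φ
  letI mW : Module (AdjoinRoot f) W := Module.compHom W ψ
  have eV : ∀ (P : F[X]) (v : V), AdjoinRoot.mk f P • v = aeval s P v := fun P v => rfl
  have eW : ∀ (P : F[X]) (w : W), AdjoinRoot.mk f P • w = aeval t P w := fun P w => rfl
  haveI : IsScalarTower F (AdjoinRoot f) V := IsScalarTower.of_algebraMap_smul fun a v => by
    show AdjoinRoot.mk f (C a) • v = a • v
    rw [eV, aeval_C]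
    rfl
  haveI : IsScalarTower F (AdjoinRoot f) W := IsScalarTower.of_algebraMap_smul fun a w => by
    show AdjoinRoot.mk f (C a) • w = a • w
    rw [eW, aeval_C]
    rfl
  haveI : Module.Finite F (AdjoinRoot f) := (AdjoinRoot.powerBasis hf.ne_zero).finite
  haveI : Module.Finite (AdjoinRoot f) V := Module.Finite.of_restrictScalars_finite F _ V
  haveI : Module.Finite (AdjoinRoot f) W := Module.Finite.of_restrictScalars_finite F _ W
  have hk : Module.finrank (AdjoinRoot f) V = Module.finrank (AdjoinRoot f) W := by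
    have h1 := Module.finrank_mul_finrank F (AdjoinRoot f) V
    have h2 := Module.finrank_mul_finrank F (AdjoinRoot f) W
    rw [hd] at h1
    exact Nat.eq_of_mul_eq_mul_left Module.finrank_pos (h1.trans h2.symm)
  let e := LinearEquiv.ofFinrankEq (R := AdjoinRoot f) V W hk
  refine ⟨e.restrictScalars F, fun v => ?_⟩
  show e (s v) = t (e v)
  have h1 := e.map_smul (AdjoinRoot.mk f X) v
  rwa [eV, eW, aeval_X, aeval_X] at h1

end roots

end CfsgLib.NormalCover
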