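import Cfsg.Agent.Lib.NormalCover.Basic
import Cfsg.Agent.Lib.SLMin.Basic
import Cfsg.Agent.Lib.Zorn.Cent
import Cfsg.Agent.Lib.GL2Classes

/-!
In characteristic `2` the group `G₂(q)`, `q ≥ 4`, is covered by the conjugates of two stabilisers of
non-degenerate planes through the unit.
-/

set_option autoImplicit false

namespace CfsgLib.NormalCover.G2

open Matrix CfsgLib.Zorn

variable {F : Type*} [Field F]

local notation "M2" => Matrix (Fin 2) (Fin 2) F
local notation "M3" => Matrix (Fin 3) (Fin 3) F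

/-- The action of a matrix on the vector parts. -/
def slFun (g : M3) (x : Fin 8 → F) : Fin 8 → F :=
  let a := g *ᵥ Cfsg.Lie.zA F x
  let b := g.adjugateᵀ *ᵥ Cfsg.Lie.zB F x
  ![x 0, a 0, a 1, a 2, b 0, b 1, b 2, x 7]

theorem slFun_zA (g : M3) (x : Fin 8 → F) : Cfsg.Lie.zA F (slFun g x) = g *ᵥ Cfsg.Lie.zA F x := by
  funext i; fin_cases i <;> rfl

theorem slFun_zB (g : M3) (x : Fin 8 → F) :
    Cfsg.Lie.zB F (slFun g x) = g.adjugateᵀ *ᵥ Cfsg.Lie.zB F x := by
  funext i; fin_cases i <;> rfl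

theorem slFun_zm {g : M3} (hg : g.det = 1) (x y : Fin 8 → F) :
    slFun g (zm x y) = zm (slFun g x) (slFun g y) := by
  rw [Matrix.det_fin_three] at hg
  rw [zm_eq, zm_eq]
  funext i
  fin_cases i <;> simp [slFun, Matrix.mulVec, dotProduct, Fin.sum_univ_three, Matrix.adjugate_fin_three]
  · linear_combination (-(x 1 * y 4 + x 2 * y 5 + x 3 * y 6)) * hg
  · linear_combination (g 0 0 * (x 5 * y 6 - x 6 * y 5) + g 0 1 * (x 6 * y 4 - x 4 * y 6)
      + g 0 2 * (x 4 * y 5 - x 5 * y 4)) * hg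
  · linear_combination (g 1 0 * (x 5 * y 6 - x 6 * y 5) + g 1 1 * (x 6 * y 4 - x 4 * y 6)
      + g 1 2 * (x 4 * y 5 - x 5 * y 4)) * hg
  · linear_combination (g 2 0 * (x 5 * y 6 - x 6 * y 5) + g 2 1 * (x 6 * y 4 - x 4 * y 6)
      + g 2 2 * (x 4 * y 5 - x 5 * y 4)) * hg
  · ring
  · ring
  · ring
  · linear_combination (-(x 4 * y 1 + x 5 * y 2 + x 6 * y 3)) * hg

theorem exists_sl_aut {g : M3} (hg : g.det = 1) :
    ∃ φ ∈ Cfsg.Lie.G2 F, ∀ x, app φ x = slFun g x := by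
  let f : (Fin 8 → F) →ₗ[F] (Fin 8 → F) :=
    { toFun := slFun g
      map_add' := fun x y => by
        funext i
        fin_cases i <;> simp [slFun, Matrix.mulVec, dotProduct, Fin.sum_univ_three] <;> ring
      map_smul' := fun c x => by
        funext i
        fin_cases i <;> simp [slFun, Matrix.mulVec, dotProduct, Fin.sum_univ_three] <;> ring }
  refine exists_mem_G2 f ?_ fun x y => slFun_zm hg x y
  intro x y h
  have h' : slFun g x = slFun g y := h
  have hu : IsUnit g := (Matrix.isUnit_iff_isUnit_det g).mpr (by rw [hg]; exact isUnit_one)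
  have hu' : IsUnit g.adjugateᵀ :=
    (Matrix.isUnit_iff_isUnit_det _).mpr (by rw [det_transpose, det_adjugate, hg, one_pow]; exact isUnit_one)
  have ha := Matrix.mulVec_injective_iff_isUnit.mpr hu (by rw [← slFun_zA, ← slFun_zA, h'] :
    g *ᵥ Cfsg.Lie.zA F x = g *ᵥ Cfsg.Lie.zA F y)
  have hb := Matrix.mulVec_injective_iff_isUnit.mpr hu' (by rw [← slFun_zB, ← slFun_zB, h'] :
    g.adjugateᵀ *ᵥ Cfsg.Lie.zB F x = g.adjugateᵀ *ᵥ Cfsg.Lie.zB F y)
  have h0 : x 0 = y 0 := congrFun h' 0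
  have h7 : x 7 = y 7 := congrFun h' 7
  funext i
  fin_cases i
  · exact h0
  · exact congrFun ha 0
  · exact congrFun ha 1
  · exact congrFun ha 2
  · exact congrFun hb 0
  · exact congrFun hb 1
  · exact congrFun hb 2
  · exact h7

theorem adj_vecMul {g : M3} (hg : g.det = 1) (μ : Fin 3 → F) : g.adjugateᵀ *ᵥ (μ ᵥ* g) = μ := by
  rw [← mulVec_transpose g μ, mulVec_mulVec, ← transpose_mul, mul_adjugate, hg, one_smul, transpose_one, one_mulVec]

theorem kc_eq_zero {x : Fin 8 → F} (h1 : x 1 = 0) (h2 : x 2 = 0) (h4 : x 4 = 0) (h5 : x 5 = 0) : kc x = 0 := by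
  ext i j; fin_cases i <;> fin_cases j <;> simp [kc, h1, h2, h4, h5]

/-- Moving into the plane of the matrix subalgebra. -/
theorem to_plane_of {x : Fin 8 → F}
    (h : Cfsg.Lie.zB F x ⬝ᵥ Cfsg.Lie.zA F x ≠ 0 ∨ Cfsg.Lie.zA F x = 0 ∨ Cfsg.Lie.zB F x = 0) :
    ∃ φ ∈ Cfsg.Lie.G2 F, kc (app φ x) = 0 := by
  let e : Fin 3 → F := Pi.single 2 1
  have he : e ≠ 0 := by simp [e]
  suffices h' : ∃ g : SpecialLinearGroup (Fin 3) F, ∃ r s : F,
      g.1 *ᵥ Cfsg.Lie.zA F x = r • e ∧ g.1.adjugateᵀ *ᵥ Cfsg.Lie.zB F x = s • e by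
    obtain ⟨g, r, s, ha, hb⟩ := h'
    obtain ⟨φ, hφ, happ⟩ := exists_sl_aut g.2
    refine ⟨φ, hφ, ?_⟩
    rw [happ]
    rw [← slFun_zA] at ha
    rw [← slFun_zB] at hb
    refine kc_eq_zero ?_ ?_ ?_ ?_
    · simpa [e] using congrFun ha 0
    · simpa [e] using congrFun ha 1
    · simpa [e] using congrFun hb 0
    · simpa [e] using congrFun hb 1
  by_cases ha : Cfsg.Lie.zA F x = 0
  · by_cases hb : Cfsg.Lie.zB F x = 0
    · exact ⟨1, 0, 0, by simp [ha], by simp [hb]⟩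
    · obtain ⟨k, hk⟩ := SLMin.exists_sl_vec (ι := Fin 3) (by simp) he hb
      refine ⟨k.transpose, 0, 1, by simp [ha], ?_⟩
      have hb' : Cfsg.Lie.zB F x = e ᵥ* k.transpose.1 := by
        rw [Matrix.SpecialLinearGroup.coe_transpose, vecMul_transpose]; exact hk.symm
      rw [hb', adj_vecMul k.transpose.2, one_smul]
  · by_cases hb : Cfsg.Lie.zB F x = 0
    · obtain ⟨k, hk⟩ := SLMin.exists_sl_vec (ι := Fin 3) (by simp) ha he
      exact ⟨k, 1, 0, by simpa using hk, by simp [hb]⟩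
    · have hd : Cfsg.Lie.zB F x ⬝ᵥ Cfsg.Lie.zA F x ≠ 0 := (h.resolve_right (by simp [ha, hb]))
      set lam := Cfsg.Lie.zB F x ⬝ᵥ Cfsg.Lie.zA F x with hlam
      obtain ⟨k, hk1, hk2⟩ := SLMin.exists_sl_pairMap (ι := Fin 3) (by simp) ha he
        (μ := lam • e) (φ := Cfsg.Lie.zB F x) (smul_ne_zero hd he) hb (by simp [e, hlam])
      refine ⟨k, 1, lam, by simpa using hk1, ?_⟩
      rw [← hk2, adj_vecMul k.2]

theorem dbl_zA (h k : M2) : Cfsg.Lie.zA F (dbl h k) = ![k 0 0, k 1 0, h 0 1] := by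
  funext i; fin_cases i <;> simp [dbl]

theorem dbl_zB (h k : M2) : Cfsg.Lie.zB F (dbl h k) = ![-k 1 1, k 0 1, h 1 0] := by
  funext i; fin_cases i <;> simp [dbl]

variable [CharP F 2]

/-- Trace one elements move into the plane. -/
theorem to_plane (hq : ∃ t : F, t ≠ 0 ∧ t ≠ 1) {x : Fin 8 → F} (hx : tr x = 1) :
    ∃ φ ∈ Cfsg.Lie.G2 F, kc (app φ x) = 0 := by
  by_cases h : Cfsg.Lie.zB F x ⬝ᵥ Cfsg.Lie.zA F x ≠ 0 ∨ Cfsg.Lie.zA F x = 0 ∨ Cfsg.Lie.zB F x = 0
  · exact to_plane_of h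
  push Not at h
  obtain ⟨hd, ha, hb⟩ := h
  obtain ⟨k, hk1, hk2⟩ := SLMin.exists_sl_pairMap (ι := Fin 3) (by simp) ha
    (x := (Pi.single 0 1 : Fin 3 → F)) (μ := Pi.single 2 1) (φ := Cfsg.Lie.zB F x) (by simp) (by simp) hb
    (by rw [hd]; simp)
  obtain ⟨φ, hφ, happ⟩ := exists_sl_aut k.2
  have hy : app φ x = dbl !![x 0, 0; 1, x 7] !![1, 0; 0, 0] := by
    rw [happ]
    have hb' : k.1.adjugateᵀ *ᵥ Cfsg.Lie.zB F x = Pi.single 2 1 := by rw [← hk2, adj_vecMul k.2]
    funext i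
    simp only [slFun, hk1, hb']
    fin_cases i <;> simp [dbl]
  obtain ⟨t, ht0, ht1⟩ := hq
  let A : GL (Fin 2) F :=
    ⟨!![1, t; 0, 1], !![1, -t; 0, 1], by simp [Matrix.one_fin_two], by simp [Matrix.one_fin_two]⟩
  let p : ↥(eqDet F) := ⟨(A, 1), by
    show Matrix.GeneralLinearGroup.det A = Matrix.GeneralLinearGroup.det 1
    ext
    simp [A, Matrix.det_fin_two]⟩
  have hp : Cfsg.Lie.zB F (app (pairG2 p) (app φ x)) ⬝ᵥ Cfsg.Lie.zA F (app (pairG2 p) (app φ x)) ≠ 0 := by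
    rw [hy, app_pairG2, pairLin_dbl, dbl_zA, dbl_zB]
    simp [p, A, Matrix.mul_apply, Fin.sum_univ_two, dotProduct, Fin.sum_univ_three]
    have h7 : x 7 = 1 - x 0 := by
      have : x 0 + x 7 = 1 := hx
      linear_combination this
    intro h
    have h' : t * (1 - t) = 0 := by
      linear_combination h + (-t) * h7 + t * x 0 * (CharTwo.two_eq_zero : (2 : F) = 0)
    rcases mul_eq_zero.mp h' with h1 | h1
    · exact ht0 h1
    · exact ht1 (sub_eq_zero.mp h1).symm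
  obtain ⟨ψ, hψ, hk⟩ := to_plane_of (Or.inl hp)
  refine ⟨ψ * (pairG2 p * φ), mul_mem hψ (mul_mem (pairG2_mem p) hφ), ?_⟩
  rw [app_mul, app_mul]
  exact hk

/-- The standard element of trace `1` and norm `c`. -/
def std (c : F) : Fin 8 → F := dbl (GL2Classes.comp 1 c) 0

theorem std_tr_nm (c : F) : tr (std c) = 1 ∧ nm (std c) = c := by
  refine ⟨?_, ?_⟩
  · simp [tr, std, dbl, GL2Classes.comp]
  · rw [std, nm_dbl, GL2Classes.det_comp]; simp

/-- Transitivity on elements of trace `1` with given norm. -/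
theorem to_std (hq : ∃ t : F, t ≠ 0 ∧ t ≠ 1) {x : Fin 8 → F} {c : F} (hx : tr x = 1) (hn : nm x = c) :
    ∃ φ ∈ Cfsg.Lie.G2 F, app φ x = std c := by
  obtain ⟨φ, hφ, hk⟩ := to_plane hq hx
  obtain ⟨h1, h2⟩ := tr_nm_app hφ x
  set y := app φ x
  have hy : y = dbl (hc y) 0 := by rw [← hk, dbl_hc_kc]
  have htr : (hc y).trace = 1 := by
    rw [← hx, ← h1]
    simp [hc, tr, Matrix.trace_fin_two]
  have hdet : (hc y).det = c := by
    rw [← hn, ← h2]
    conv_rhs => rw [hy, nm_dbl]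
    simp
  obtain ⟨P, hP⟩ := GL2Classes.exists_conj_comp (M := hc y) (by
    intro a ha
    rw [ha, Matrix.trace_fin_two] at htr
    simp [CharTwo.add_self_eq_zero] at htr)
  rw [htr, hdet] at hP
  refine ⟨pairG2 ⟨(P⁻¹, P⁻¹), rfl⟩ * φ, mul_mem (pairG2_mem _) hφ, ?_⟩
  rw [app_mul, show app φ x = y from rfl, hy, app_pairG2, pairLin_dbl]
  simp only [inv_inv, mul_zero, zero_mul, std]
  rw [Matrix.mul_assoc, hP, ← Matrix.mul_assoc, ← Units.val_mul, inv_mul_cancel, Units.val_one, one_mul]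

/-- The stabiliser of the pair `std c`, `std c + 1`. -/
def planeStab (c : F) : Subgroup ↥(Cfsg.Lie.G2 F) where
  carrier := {g | ∃ e : F, (e = 0 ∨ e = 1) ∧ app g.1 (std c) = std c + e • one8}
  mul_mem' := by
    rintro g h ⟨e, he, hg⟩ ⟨d, hd, hh⟩
    refine ⟨e + d, ?_, ?_⟩
    · rcases he with rfl | rfl <;> rcases hd with rfl | rfl <;> simp [CharTwo.add_self_eq_zero]
    · rw [Subgroup.coe_mul, app_mul, hh, app_add, app_smul, app_one8 g.2, hg, add_smul, add_assoc]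
  one_mem' := ⟨0, Or.inl rfl, by rw [OneMemClass.coe_one, app_one, zero_smul, add_zero]⟩
  inv_mem' := by
    rintro g ⟨e, he, hg⟩
    refine ⟨e, he, app_injective g.1 ?_⟩
    rw [← app_mul, ← Subgroup.coe_mul, mul_inv_cancel, OneMemClass.coe_one, app_one, app_add, app_smul,
      app_one8 g.2, hg, add_assoc, ← add_smul, CharTwo.add_self_eq_zero, zero_smul, add_zero]

theorem planeStab_ne_top (hq : ∃ t : F, t ≠ 0 ∧ t ≠ 1) (c : F) : planeStab c ≠ ⊤ := by
  intro htop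
  let x : Fin 8 → F := dbl (GL2Classes.comp 1 c) !![1, 0; 0, 0]
  have hx : tr x = 1 := by simp [tr, x, dbl, GL2Classes.comp]
  have hn : nm x = c := by
    show nm (dbl _ _) = c
    rw [nm_dbl, GL2Classes.det_comp]; simp [Matrix.det_fin_two]
  obtain ⟨φ, hφ, h⟩ := to_std hq hx hn
  obtain ⟨e, -, he⟩ : (⟨φ, hφ⟩ : ↥(Cfsg.Lie.G2 F))⁻¹ ∈ planeStab c := by rw [htop]; exact Subgroup.mem_top _
  rw [← h] at he
  change app φ⁻¹ (app φ x) = app φ x + e • one8 at he
  rw [← app_mul, inv_mul_cancel, app_one, h] at he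
  have := congrFun he 1
  simp [x, std, dbl, one8] at this

/-- An automorphism has an element of trace `1` moved by a scalar. -/
theorem exists_shift {g : GL (Fin 8) F} (hg : g ∈ Cfsg.Lie.G2 F) :
    ∃ (x : Fin 8 → F) (s : F), tr x = 1 ∧ app g x = x + s • one8 := by
  by_contra hno
  push Not at hno
  let T : Module.End F (Fin 8 → F) := Matrix.toLin' g.1 - LinearMap.id
  let Z : Submodule F (Fin 8 → F) := F ∙ one8
  let T' := Z.mkQ ∘ₗ T
  let trl : Module.Dual F (Fin 8 → F) :=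
    { toFun := tr, map_add' := tr_add, map_smul' := fun a x => tr_smul a x }
  have hker : trl ∈ (LinearMap.ker T').dualAnnihilator := by
    rw [Submodule.mem_dualAnnihilator]
    intro y hy
    by_contra h0
    have h0' : tr y ≠ 0 := h0
    rw [LinearMap.mem_ker, LinearMap.comp_apply, Submodule.mkQ_apply, Submodule.Quotient.mk_eq_zero] at hy
    obtain ⟨s, hs⟩ := Submodule.mem_span_singleton.mp hy
    refine hno ((tr y)⁻¹ • y) ((tr y)⁻¹ * s) (by rw [tr_smul, inv_mul_cancel₀ h0']) ?_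
    have hgy : app g y = y + s • one8 := by
      rw [hs]
      show app g y = y + (app g y - y)
      rw [add_sub_cancel]
    rw [app_smul, hgy, smul_add, smul_smul]
  rw [← LinearMap.range_dualMap_eq_dualAnnihilator_ker] at hker
  obtain ⟨ψ, hψ⟩ := hker
  let β : (Fin 8 → F) →ₗ[F] Module.Dual F (Fin 8 → F) :=
    LinearMap.mk₂ F bl (fun x y z => add_bl x y z) (fun c x y => smul_bl c x y) (fun x y z => bl_add x y z)
      (fun c x y => bl_smul c x y)
  have hβ : Function.Surjective β := by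
    have hi : Function.Injective β := (injective_iff_map_eq_zero β).mpr fun x hx =>
      eq_zero_of_bl fun y => LinearMap.congr_fun hx y
    exact (LinearMap.injective_iff_surjective_of_finrank_eq_finrank (Subspace.dual_finrank_eq).symm).mp hi
  obtain ⟨v, hv⟩ := hβ (ψ ∘ₗ Z.mkQ)
  have hv' : ∀ y, bl v y = ψ (Z.mkQ y) := LinearMap.congr_fun hv
  have htrv : tr v = 0 := by
    rw [← bl_one, hv', Submodule.mkQ_apply,
      (Submodule.Quotient.mk_eq_zero Z).mpr (Submodule.mem_span_singleton_self _), map_zero]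
  have hgi : g⁻¹ ∈ Cfsg.Lie.G2 F := inv_mem hg
  have key : app g⁻¹ v = v + one8 := by
    apply sub_eq_zero.mp
    refine eq_zero_of_bl fun y => ?_
    have e1 : bl (app g⁻¹ v) y = bl v (app g y) := by
      rw [← bl_app hg, ← app_mul, mul_inv_cancel, app_one]
    have e2 : tr y = bl v (app g y - y) := by
      rw [hv']
      exact (LinearMap.congr_fun hψ y).symm
    rw [bl_sub] at e2
    rw [sub_eq_add_neg, add_bl, bl_comm (-(v + one8)), bl_neg, bl_comm y, add_bl, bl_comm one8, bl_one, e1, e2]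
    ring
  have h2 := (tr_nm_app hgi v).2
  rw [key, nm_add, bl_one, htrv, add_zero, add_eq_left] at h2
  simp [nm, one8] at h2

theorem covered [Finite F] (hq : ∃ t : F, t ≠ 0 ∧ t ≠ 1) : Covered ↥(Cfsg.Lie.G2 F) := by
  obtain ⟨c₁, hc₁, hidx⟩ : ∃ c₁ : F, (¬ ∃ y, y ^ 2 + y = c₁) ∧
      ∀ w : F, (∃ y, y ^ 2 + y = w) ∨ ∃ y, y ^ 2 + y = w + c₁ := by
    let φ : F →+ F := AddMonoidHom.mk' (fun y => y ^ 2 + y) fun a b => by rw [CharTwo.add_sq]; ring
    have hker : Nat.card φ.ker = 2 := by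
      have h : (φ.ker : Set F) = {0, 1} := by
        ext y
        show y ^ 2 + y = 0 ↔ y = 0 ∨ y = 1
        rw [show y ^ 2 + y = y * (y + 1) by ring, mul_eq_zero, CharTwo.add_eq_zero]
      rw [← SetLike.coe_sort_coe, h, Nat.card_coe_set_eq, Set.ncard_pair zero_ne_one]
    have hidx : φ.range.index = 2 := by
      have h1 := φ.range.index_mul_card
      have h2 := φ.ker.card_mul_index
      rw [AddSubgroup.index_ker, hker] at h2
      have hpos : 0 < Nat.card φ.range := Nat.card_pos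
      exact Nat.eq_of_mul_eq_mul_right hpos (h1.trans h2.symm)
    obtain ⟨c, hc⟩ : ∃ c, c ∉ φ.range := by
      by_contra h
      push Not at h
      rw [(AddSubgroup.eq_top_iff' _).mpr h, AddSubgroup.index_top] at hidx
      omega
    refine ⟨c, hc, fun w => ?_⟩
    by_cases hw : w ∈ φ.range
    · exact Or.inl hw
    · exact Or.inr ((AddSubgroup.add_mem_iff_of_index_two hidx).mpr (by simp [hw, hc]))
  refine ⟨planeStab 0, planeStab c₁, planeStab_ne_top hq 0, planeStab_ne_top hq c₁, fun g => ?_⟩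
  obtain ⟨x, s, hx, hgx⟩ := exists_shift g.2
  have hs : s = 0 ∨ s = 1 := by
    have h := (tr_nm_app g.2 x).2
    rw [hgx, nm_add, nm_smul, bl_smul, bl_one, hx, add_assoc, add_eq_left] at h
    have h' : s * (s + 1) = 0 := by
      have : nm (one8 : Fin 8 → F) = 1 := by simp [nm, one8]
      rw [this] at h
      linear_combination h
    exact (mul_eq_zero.mp h').imp id CharTwo.add_eq_zero.mp
  have key : ∀ c : F, (∃ y, y ^ 2 + y = nm x + c) → ∃ h, h * g * h⁻¹ ∈ planeStab c := by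
    rintro c ⟨y, hy⟩
    have htr : tr (x + y • one8) = 1 := by
      rw [tr_add, tr_smul, hx]
      simp [tr, one8, CharTwo.add_self_eq_zero]
    have hnm : nm (x + y • one8) = c := by
      rw [nm_add, nm_smul, bl_smul, bl_one, hx]
      rw [show nm (one8 : Fin 8 → F) = 1 by simp [nm, one8]]
      linear_combination hy + CharTwo.add_self_eq_zero (nm x)
    obtain ⟨φ, hφ, h⟩ := to_std hq htr hnm
    refine ⟨⟨φ, hφ⟩, s, hs, ?_⟩
    show app (φ * g.1 * φ⁻¹) (std c) = _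
    rw [← h, app_mul, app_mul, ← app_mul φ⁻¹, inv_mul_cancel, app_one, app_add, app_smul, app_one8 g.2, hgx]
    simp only [app_add, app_smul, app_one8 hφ]
    abel
  rcases hidx (nm x) with hw | hw
  · obtain ⟨h, hh⟩ := key 0 (by simpa using hw)
    exact ⟨h, Or.inl hh⟩
  · obtain ⟨h, hh⟩ := key c₁ hw
    exact ⟨h, Or.inr hh⟩

end CfsgLib.NormalCover.G2
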