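import Cfsg.Agent.Lib.NormalCover.Basic
import Cfsg.Agent.Lib.SLMin.Basic

/-!
`PSL_n(q)`, `n = 2, 3, 4`, is covered by the conjugates of a point stabiliser and of the centraliser of a
field extension subalgebra.
-/

set_option autoImplicit false

namespace CfsgLib.NormalCover.Linear

open Polynomial Matrix

variable {F : Type*} [Field F]

/-- An element with a root of its characteristic polynomial fixes a line. -/
theorem exists_eigvec {ι : Type*} [Fintype ι] [DecidableEq ι] {M : Matrix ι ι F} {a : F}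
    (h : M.charpoly.IsRoot a) : ∃ v : ι → F, v ≠ 0 ∧ M *ᵥ v = a • v := by
  have h0 : (Matrix.scalar ι a - M).det = 0 := by rw [← eval_charpoly]; exact h
  obtain ⟨v, hv, hv0⟩ := Matrix.exists_mulVec_eq_zero_iff.mpr h0
  refine ⟨v, hv, ?_⟩
  rw [sub_mulVec, sub_eq_zero] at hv0
  rw [← hv0]
  funext i
  simp [Matrix.scalar_apply, mulVec_diagonal]

/-- A root of `f` commuting with a matrix without eigenvalues. -/
theorem exists_root_of_no_eigen [Finite F] {n d : ℕ} (hn : n ≤ 4) (hdn : d ∣ n)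
    (hd : (d = n ∧ n ≤ 3) ∨ d = 2) {f : F[X]} (hf : Irreducible f) (hfd : f.natDegree = d)
    (M : Matrix (Fin n) (Fin n) F) (h : ∀ a, ¬ M.charpoly.IsRoot a) :
    ∃ z : Matrix (Fin n) (Fin n) F, aeval z f = 0 ∧ Commute M z := by
  refine exists_root_commute hf M M.charpoly_monic.ne_zero (aeval_self_charpoly M) fun π hπ hdvd => ?_
  rw [hfd]
  obtain ⟨c, hc⟩ := hdvd
  have hc0 : c ≠ 0 := fun h0 => M.charpoly_monic.ne_zero (by rw [hc, h0, mul_zero])
  have hdeg : π.natDegree + c.natDegree = n := by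
    rw [← natDegree_mul hπ.ne_zero hc0, ← hc, M.charpoly_natDegree_eq_dim, Fintype.card_fin]
  have key : ∀ p : F[X], p ∣ M.charpoly → p.natDegree ≠ 1 := by
    intro p hp h1
    obtain ⟨a, ha⟩ := exists_root_of_degree_eq_one (degree_eq_iff_natDegree_eq_of_pos Nat.one_pos |>.mpr h1)
    exact h a (ha.dvd hp)
  have h1 := key π ⟨c, hc⟩
  have h2 := key c ⟨π, by rw [hc, mul_comm]⟩
  have h3 := hπ.natDegree_pos
  have h4 : π.natDegree = n ∨ (π.natDegree = 2 ∧ n = 4) := by omega
  rcases h4 with h4 | ⟨h4, h5⟩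
  · rw [h4]; exact hdn
  · rcases hd with hd | hd
    · omega
    · rw [h4, hd]

/-- The stabiliser of the first coordinate line. -/
def pointStab (n : ℕ) [NeZero n] (F : Type*) [Field F] : Subgroup (Matrix.SpecialLinearGroup (Fin n) F) where
  carrier := {g | ∃ a : F, (g : Matrix (Fin n) (Fin n) F) *ᵥ Pi.single 0 1 = a • Pi.single 0 1}
  mul_mem' := by
    rintro g h ⟨a, ha⟩ ⟨b, hb⟩
    exact ⟨b * a, by rw [Matrix.SpecialLinearGroup.coe_mul, ← mulVec_mulVec, hb, mulVec_smul, ha, smul_smul]⟩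
  one_mem' := ⟨1, by rw [Matrix.SpecialLinearGroup.coe_one, one_mulVec, one_smul]⟩
  inv_mem' := by
    rintro g ⟨a, ha⟩
    have h1 : ((g⁻¹ : Matrix.SpecialLinearGroup (Fin n) F) : Matrix (Fin n) (Fin n) F) * (g : Matrix (Fin n) (Fin n) F) = 1 := by
      rw [← Matrix.SpecialLinearGroup.coe_mul, inv_mul_cancel, Matrix.SpecialLinearGroup.coe_one]
    have h2 := congrArg (((g⁻¹ : Matrix.SpecialLinearGroup (Fin n) F) : Matrix (Fin n) (Fin n) F) *ᵥ ·) ha
    simp only [mulVec_mulVec, h1, one_mulVec, mulVec_smul] at h2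
    have ha0 : a ≠ 0 := by
      rintro rfl
      rw [zero_smul, Pi.single_eq_zero_iff] at h2
      exact one_ne_zero h2
    exact ⟨a⁻¹, ((inv_smul_eq_iff₀ ha0).mpr h2).symm⟩

theorem pointStab_ne_top (n : ℕ) [NeZero n] (hn : 2 ≤ n) : pointStab n F ≠ ⊤ := by
  intro h
  let i : Fin n := ⟨1, hn⟩
  have hi : i ≠ 0 := fun h => by simpa [i] using congrArg Fin.val h
  let t : Matrix.SpecialLinearGroup (Fin n) F :=
    ⟨transvection i 0 (1 : F), det_transvection_of_ne i 0 hi 1⟩
  obtain ⟨a, ha⟩ : t ∈ pointStab n F := by rw [h]; exact Subgroup.mem_top t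
  have := congrFun ha i
  rw [show (t : Matrix (Fin n) (Fin n) F) = transvection i 0 (1 : F) from rfl] at this
  simp [transvection, hi] at this

theorem pointStab_center (n : ℕ) [NeZero n] :
    Subgroup.center (Matrix.SpecialLinearGroup (Fin n) F) ≤ pointStab n F := by
  intro g hg
  obtain ⟨r, -, hr⟩ := Matrix.SpecialLinearGroup.mem_center_iff.mp hg
  refine ⟨r, ?_⟩
  rw [← hr]
  funext i
  simp [mulVec_diagonal]

/-- The elements of the special linear group commuting with `J`. -/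
def comm {n : ℕ} (J : Matrix (Fin n) (Fin n) F) : Subgroup (Matrix.SpecialLinearGroup (Fin n) F) where
  carrier := {g | Commute (g : Matrix (Fin n) (Fin n) F) J}
  mul_mem' ha hb := by
    simp only [Set.mem_ofPred_eq] at ha hb ⊢
    rw [Matrix.SpecialLinearGroup.coe_mul]
    exact ha.mul_left hb
  one_mem' := by simp [Commute.one_left]
  inv_mem' {g} hg := by
    have h1 : ((g⁻¹ : Matrix.SpecialLinearGroup (Fin n) F) : Matrix (Fin n) (Fin n) F) * (g : Matrix (Fin n) (Fin n) F) = 1 := by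
      rw [← Matrix.SpecialLinearGroup.coe_mul, inv_mul_cancel, Matrix.SpecialLinearGroup.coe_one]
    have h2 : (g : Matrix (Fin n) (Fin n) F) * ((g⁻¹ : Matrix.SpecialLinearGroup (Fin n) F) : Matrix (Fin n) (Fin n) F) = 1 := by
      rw [← Matrix.SpecialLinearGroup.coe_mul, mul_inv_cancel, Matrix.SpecialLinearGroup.coe_one]
    exact (show Commute (⟨_, _, h2, h1⟩ : (Matrix (Fin n) (Fin n) F)ˣ).val J from hg).units_inv_left

theorem comm_center {n : ℕ} (J : Matrix (Fin n) (Fin n) F) :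
    Subgroup.center (Matrix.SpecialLinearGroup (Fin n) F) ≤ comm J := by
  intro g hg
  obtain ⟨r, -, hr⟩ := Matrix.SpecialLinearGroup.mem_center_iff.mp hg
  show Commute (g : Matrix (Fin n) (Fin n) F) J
  rw [← hr]
  exact Matrix.scalar_commute r (Commute.all r) J

theorem comm_ne_top {n : ℕ} {J : Matrix (Fin n) (Fin n) F} (h : J ∉ Set.range (Matrix.scalar (Fin n))) :
    comm J ≠ ⊤ := by
  intro htop
  refine h (Matrix.mem_range_scalar_of_commute_transvectionStruct fun t => ?_)
  let t' : Matrix.SpecialLinearGroup (Fin n) F := ⟨t.toMatrix, TransvectionStruct.det t⟩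
  have hm : t' ∈ comm J := by rw [htop]; exact Subgroup.mem_top t'
  exact hm

/-- A matrix generating a field of degree `d`, with a centraliser of every determinant. -/
theorem exists_model [Finite F] {n d : ℕ} (hn : 0 < n) (hd : 2 ≤ d) (hdn : d ∣ n) :
    ∃ (J : Matrix (Fin n) (Fin n) F) (f : F[X]), Irreducible f ∧ f.natDegree = d ∧ aeval J f = 0 ∧
      J ∉ Set.range (Matrix.scalar (Fin n)) ∧
      ∀ r : F, r ≠ 0 → ∃ C : Matrix (Fin n) (Fin n) F, Commute C J ∧ C.det = r := by
  obtain ⟨k, rfl⟩ := hdn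
  haveI : Fintype F := Fintype.ofFinite F
  let p := ringChar F
  haveI : Fact p.Prime := ⟨CharP.char_is_prime F p⟩
  haveI : NeZero d := ⟨by omega⟩
  let E := FiniteField.Extension F p d
  have hE : Module.finrank F E = d := FiniteField.finrank_extension F p d
  obtain ⟨θ, hθ⟩ := Field.exists_primitive_element F E
  have hint : IsIntegral F θ := IsIntegral.of_finite F θ
  have hmd : (minpoly F θ).natDegree = d := by
    rw [(Field.primitive_element_iff_minpoly_natDegree_eq F θ).mp hθ]; exact hE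
  obtain ⟨k, rfl⟩ : ∃ j, k = j + 1 := Nat.exists_eq_succ_of_ne_zero (by rintro rfl; simp at hn)
  have hV : Module.finrank F (E × (Fin k → E)) = d * (k + 1) := by
    rw [Module.finrank_prod, Module.finrank_pi_fintype, hE]
    simp [hE]
    ring
  let T : (E × (Fin k → E)) ≃ₗ[F] (Fin (d * (k + 1)) → F) :=
    LinearEquiv.ofFinrankEq _ _ (by rw [hV, Module.finrank_fin_fun])
  let Φ : Module.End F (E × (Fin k → E)) ≃ₐ[F] Matrix (Fin (d * (k + 1))) (Fin (d * (k + 1))) F :=
    (T.conjAlgEquiv F).trans LinearMap.toMatrixAlgEquiv'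
  let L : E →ₐ[F] Module.End F (E × (Fin k → E)) := Algebra.lsmul (R := F) (A := E) F (E × (Fin k → E))
  refine ⟨Φ (L θ), minpoly F θ, minpoly.irreducible hint, hmd, ?_, ?_, ?_⟩
  · rw [Polynomial.aeval_algHom_apply, Polynomial.aeval_algHom_apply, minpoly.aeval, map_zero, map_zero]
  · rintro ⟨a, ha⟩
    have h1 : L θ = algebraMap F _ a := by
      apply Φ.injective
      rw [AlgEquiv.commutes, ← ha]
      rfl
    have h2 := congrArg (fun u : Module.End F (E × (Fin k → E)) => (u (1, 0)).1) h1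
    simp [L, Algebra.smul_def] at h2
    have h3 := minpoly.eq_X_sub_C E a
    rw [← h2] at h3
    rw [h3, natDegree_X_sub_C] at hmd
    omega
  · intro r hr
    obtain ⟨e, he⟩ := FiniteField.norm_surjective F E r
    let C₀ : Module.End F (E × (Fin k → E)) := LinearMap.prodMap (Algebra.lmul F E e) LinearMap.id
    refine ⟨Φ C₀, ?_, ?_⟩
    · apply Commute.map
      refine LinearMap.ext fun x => Prod.ext ?_ ?_
      · simp [C₀, L, mul_left_comm]
      · simp [C₀, L]
    · show (LinearMap.toMatrixAlgEquiv' (T.conjAlgEquiv F C₀)).det = r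
      rw [show LinearMap.toMatrixAlgEquiv' (T.conjAlgEquiv F C₀) = LinearMap.toMatrix' (T.conj C₀) from rfl]
      rw [LinearMap.det_toMatrix', LinearEquiv.conj_apply, LinearMap.comp_assoc, LinearMap.det_conj]
      rw [show C₀ = LinearMap.prodMap (Algebra.lmul F E e) LinearMap.id from rfl, LinearMap.det_prodMap,
        LinearMap.det_id, mul_one, ← he, Algebra.norm_apply]

/-- `PSL_n(q)` is covered by the conjugates of two proper subgroups for `n = 2, 3, 4`. -/
theorem covered [Finite F] {n d : ℕ} [NeZero n] (hn : 2 ≤ n) (hn4 : n ≤ 4) (hdn : d ∣ n)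
    (hd : (d = n ∧ n ≤ 3) ∨ d = 2) :
    Covered (Matrix.ProjectiveSpecialLinearGroup (Fin n) F) := by
  have hd2 : 2 ≤ d := by omega
  obtain ⟨J, f, hf, hfd, hJ, hJs, hJd⟩ := exists_model (F := F) (n := n) (by omega) hd2 hdn
  refine covered_quotient _ (pointStab n F) (comm J) (pointStab_ne_top n hn) (comm_ne_top hJs)
    (pointStab_center n) (comm_center J) fun g => ?_
  by_cases h : ∃ a, (g : Matrix (Fin n) (Fin n) F).charpoly.IsRoot a
  · obtain ⟨a, ha⟩ := h
    obtain ⟨v, hv, hv'⟩ := exists_eigvec ha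
    obtain ⟨x, hx⟩ := SLMin.exists_sl_vec (ι := Fin n) (by simpa using hn) hv
      (x := (Pi.single 0 1 : Fin n → F)) (by simp [Pi.single_eq_zero_iff])
    refine ⟨x, Or.inl ⟨a, ?_⟩⟩
    have hinv : ((x⁻¹ : Matrix.SpecialLinearGroup (Fin n) F) : Matrix (Fin n) (Fin n) F) *ᵥ Pi.single 0 1 = v := by
      rw [← hx, mulVec_mulVec, ← Matrix.SpecialLinearGroup.coe_mul, inv_mul_cancel, Matrix.SpecialLinearGroup.coe_one,
        one_mulVec]
    rw [Matrix.SpecialLinearGroup.coe_mul, Matrix.SpecialLinearGroup.coe_mul, ← mulVec_mulVec, hinv, ← mulVec_mulVec,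
      hv', mulVec_smul, hx]
  · push Not at h
    obtain ⟨z, hz, hcomm⟩ := exists_root_of_no_eigen hn4 hdn hd hf hfd _ h
    have hJ' : aeval (Matrix.toLinAlgEquiv' J) f = 0 := by rw [Polynomial.aeval_algHom_apply, hJ, map_zero]
    have hz' : aeval (Matrix.toLinAlgEquiv' z) f = 0 := by rw [Polynomial.aeval_algHom_apply, hz, map_zero]
    obtain ⟨e, he⟩ := exists_similar hf _ _ hz' hJ' rfl
    set P : Matrix (Fin n) (Fin n) F := LinearMap.toMatrix' e.toLinearMap with hP
    have hPz : P * z = J * P := by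
      apply Matrix.toLin'.injective
      rw [Matrix.toLin'_mul, Matrix.toLin'_mul, hP, Matrix.toLin'_toMatrix']
      exact LinearMap.ext fun v => he v
    have hPd : P.det ≠ 0 := by
      rw [hP, LinearMap.det_toMatrix']
      exact (LinearEquiv.isUnit_det' e).ne_zero
    obtain ⟨C, hC, hCd⟩ := hJd P.det⁻¹ (inv_ne_zero hPd)
    let x : Matrix.SpecialLinearGroup (Fin n) F := ⟨C * P, by rw [det_mul, hCd, inv_mul_cancel₀ hPd]⟩
    have hxz : (x : Matrix (Fin n) (Fin n) F) * z = J * (x : Matrix (Fin n) (Fin n) F) := by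
      show C * P * z = J * (C * P)
      rw [Matrix.mul_assoc, hPz, ← Matrix.mul_assoc, hC.eq, Matrix.mul_assoc]
    refine ⟨x, Or.inr ?_⟩
    show Commute _ J
    have hzx : z * ((x⁻¹ : Matrix.SpecialLinearGroup (Fin n) F) : Matrix (Fin n) (Fin n) F) =
        ((x⁻¹ : Matrix.SpecialLinearGroup (Fin n) F) : Matrix (Fin n) (Fin n) F) * J := by
      have h1 : ((x⁻¹ : Matrix.SpecialLinearGroup (Fin n) F) : Matrix (Fin n) (Fin n) F) * (x : Matrix (Fin n) (Fin n) F) = 1 := by
        rw [← Matrix.SpecialLinearGroup.coe_mul, inv_mul_cancel, Matrix.SpecialLinearGroup.coe_one]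
      have h2 : (x : Matrix (Fin n) (Fin n) F) * ((x⁻¹ : Matrix.SpecialLinearGroup (Fin n) F) : Matrix (Fin n) (Fin n) F) = 1 := by
        rw [← Matrix.SpecialLinearGroup.coe_mul, mul_inv_cancel, Matrix.SpecialLinearGroup.coe_one]
      exact ((show SemiconjBy (⟨_, _, h2, h1⟩ : (Matrix (Fin n) (Fin n) F)ˣ).val z J from hxz).units_inv_symm_left).symm
    rw [Matrix.SpecialLinearGroup.coe_mul, Matrix.SpecialLinearGroup.coe_mul, commute_iff_eq, Matrix.mul_assoc _ _ J, ← hzx,
      Matrix.mul_assoc (x : Matrix (Fin n) (Fin n) F), ← Matrix.mul_assoc (g : Matrix (Fin n) (Fin n) F) z,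
      hcomm.eq, Matrix.mul_assoc z, ← Matrix.mul_assoc (x : Matrix (Fin n) (Fin n) F) z, hxz]
    simp only [Matrix.mul_assoc]

end CfsgLib.NormalCover.Linear
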