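import Cfsg.Agent.Lib.NormalCover.Basic
import Cfsg.Agent.Lib.IsometryClasses.Pieces

/-!
Semilinear symplectic models over a cubic extension in characteristic `3`.
-/

set_option autoImplicit false
set_option linter.unusedSectionVars false

namespace CfsgLib.NormalCover.Sp6

open Polynomial CfsgLib.IsometryClasses

universe u w

variable {F : Type u} [Field F] [Fintype F] {E : Type w} [Field E] [Algebra F E] [FiniteDimensional F E]

variable (F E) in
/-- The trace of the determinant. -/
noncomputable def form : (E × E) →ₗ[F] (E × E) →ₗ[F] F :=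
  LinearMap.mk₂ F (fun u v => Algebra.trace F E (u.1 * v.2 - u.2 * v.1))
    (fun u u' v => by
      rw [← map_add]; congr 1; simp only [Prod.fst_add, Prod.snd_add]; ring)
    (fun c u v => by
      rw [← map_smul]; congr 1; simp only [Prod.smul_fst, Prod.smul_snd, smul_mul_assoc, smul_sub])
    (fun u v v' => by
      rw [← map_add]; congr 1; simp only [Prod.fst_add, Prod.snd_add]; ring)
    (fun c u v => by
      rw [← map_smul]; congr 1; simp only [Prod.smul_fst, Prod.smul_snd, mul_smul_comm, smul_sub])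

theorem form_apply (u v : E × E) : form F E u v = Algebra.trace F E (u.1 * v.2 - u.2 * v.1) := rfl

/-- Isometries of the form. -/
def Isom (φ : Module.End F (E × E)) : Prop := ∀ u v, form F E (φ u) (φ v) = form F E u v

/-- Semilinear maps for the extension. -/
def Semi (φ : Module.End F (E × E)) : Prop := ∀ e : E, ∃ e' : E, ∀ x, φ (e • x) = e' • φ x

/-- A two-by-two matrix applied after a field automorphism. -/
noncomputable def twist (τ : E ≃ₐ[F] E) (a b c d : E) : Module.End F (E × E) where
  toFun x := (a * τ x.1 + b * τ x.2, c * τ x.1 + d * τ x.2)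
  map_add' x y := by simp only [Prod.fst_add, Prod.snd_add, map_add, Prod.mk_add_mk, Prod.mk.injEq]; constructor <;> ring
  map_smul' r x := by
    simp only [Prod.smul_fst, Prod.smul_snd, map_smul, mul_smul_comm, RingHom.id_apply, Prod.smul_mk, smul_add]

theorem twist_apply (τ : E ≃ₐ[F] E) (a b c d : E) (x : E × E) :
    twist τ a b c d x = (a * τ x.1 + b * τ x.2, c * τ x.1 + d * τ x.2) := rfl

theorem twist_semi (τ : E ≃ₐ[F] E) (a b c d : E) : Semi (twist τ a b c d) := fun e => ⟨τ e, fun x => by
  rw [twist_apply, twist_apply]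
  simp only [Prod.smul_fst, Prod.smul_snd, smul_eq_mul, map_mul, Prod.smul_mk, Prod.mk.injEq]
  constructor <;> ring⟩

theorem twist_isom (τ : E ≃ₐ[F] E) {a b c d : E} (h : a * d - b * c = 1) : Isom (twist τ a b c d) := fun u v => by
  rw [form_apply, form_apply, twist_apply, twist_apply]
  have hd : (a * τ u.1 + b * τ u.2) * (c * τ v.1 + d * τ v.2) - (c * τ u.1 + d * τ u.2) * (a * τ v.1 + b * τ v.2) =
      τ (u.1 * v.2 - u.2 * v.1) := by
    rw [map_sub, map_mul, map_mul]
    linear_combination (τ u.1 * τ v.2 - τ u.2 * τ v.1) * h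
  rw [hd, Algebra.trace_eq_of_algEquiv]

theorem aeval_root_du {L : Type*} [Field L] [Algebra F L] {p : F[X]} {μ : L} (hμ : μ ≠ 0)
    (h : aeval μ p = 0) : aeval μ⁻¹ (du p) = 0 := by
  letI : Invertible μ := invertibleOfNonzero hμ
  have h1 : (p.reverse).eval₂ (algebraMap F L) (⅟ μ) = 0 := by
    rw [eval₂_reverse_eq_zero_iff]
    exact h
  rw [invOf_eq_inv] at h1
  show aeval μ⁻¹ (SUClassNumber.dualP (RingHom.id F) p) = 0
  rw [SUClassNumber.dualP, Polynomial.map_id, map_mul, aeval_def μ⁻¹ p.reverse, h1, mul_zero]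

theorem root_ne_zero {L : Type*} [Field L] [Algebra F L] {p : F[X]} {μ : L} (hp0 : p.coeff 0 ≠ 0)
    (h : aeval μ p = 0) : μ ≠ 0 := by
  rintro rfl
  rw [aeval_def, eval₂_at_zero] at h
  exact hp0 ((map_eq_zero _).mp h)

/-- Self-dual of degree six. -/
theorem model_six (hE : Module.finrank F E = 3) {p : F[X]} (hm : p.Monic) (hi : Irreducible p)
    (hp0 : p.coeff 0 ≠ 0) (hsd : du p = p) (hdeg : p.natDegree = 6) :
    ∃ φ : Module.End F (E × E), Isom φ ∧ Semi φ ∧ ∃ v, aeval φ p v = 0 ∧ v ≠ 0 := by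
  haveI : Fact (Irreducible p) := ⟨hi⟩
  let L := AdjoinRoot p
  haveI : Module.Finite F L := (AdjoinRoot.powerBasis hi.ne_zero).finite
  haveI : Finite L := Module.finite_of_finite F
  haveI : Finite E := Module.finite_of_finite F
  have hL : Module.finrank F L = 6 := by
    rw [(AdjoinRoot.powerBasis hi.ne_zero).finrank, AdjoinRoot.powerBasis_dim, hdeg]
  obtain ⟨ι⟩ : Nonempty (E →ₐ[F] L) := FiniteField.nonempty_algHom_of_finrank_dvd (by rw [hE, hL]; norm_num)
  let μ : L := AdjoinRoot.root p
  have hμ0 : aeval μ p = 0 := by rw [AdjoinRoot.aeval_eq, AdjoinRoot.mk_self]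
  have hμ : μ ≠ 0 := root_ne_zero hp0 hμ0
  have hμ' : aeval μ⁻¹ p = 0 := by
    have := aeval_root_du hμ hμ0
    rwa [hsd] at this
  have hne : μ⁻¹ ≠ μ := by
    intro h0
    have h1 : μ ^ 2 = 1 := by rw [sq]; conv_lhs => arg 1; rw [← h0]
                              exact inv_mul_cancel₀ hμ
    have h2 : p ∣ X ^ 2 - 1 := by
      rw [← AdjoinRoot.mk_eq_zero]
      show AdjoinRoot.mk p (X ^ 2 - 1) = 0
      rw [map_sub, map_pow, AdjoinRoot.mk_X, map_one]
      exact sub_eq_zero.mpr h1
    have h3 := natDegree_le_of_dvd h2 (by rw [← C_1]; exact X_pow_sub_C_ne_zero two_pos 1)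
    rw [← C_1, natDegree_X_pow_sub_C, hdeg] at h3
    omega
  obtain ⟨τ', hτ'⟩ := minpoly.exists_algEquiv_of_root' (K := F) (L := L) (x := μ⁻¹) (y := μ)
    (Algebra.IsAlgebraic.isAlgebraic _) (by
      rw [minpoly.eq_of_irreducible_of_monic hi hμ0 hm |>.symm]; exact hμ')
  haveI : Fintype L := Fintype.ofFinite L
  obtain ⟨⟨i, hi'⟩, hiτ⟩ := (FiniteField.bijective_frobeniusAlgEquivOfAlgebraic_pow F L).2 τ'
  simp only at hiτ
  let Fr := FiniteField.frobeniusAlgEquivOfAlgebraic F L
  have hord : orderOf Fr = 6 := by rw [FiniteField.orderOf_frobeniusAlgEquivOfAlgebraic, hL]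
  have hinv : (Fr ^ i) μ = μ⁻¹ := by rw [hiτ]; exact hτ'
  have hi3 : i = 3 := by
    have h2 : Fr ^ (2 * i) = 1 := by
      apply AlgEquiv.coe_algHom_injective
      apply AdjoinRoot.algHom_ext
      show (Fr ^ (2 * i)) μ = μ
      rw [two_mul, pow_add, AlgEquiv.mul_apply, hinv, map_inv₀, hinv, inv_inv]
    have h3 := orderOf_dvd_of_pow_eq_one h2
    rw [hord] at h3
    rw [hL] at hi'
    have hi0 : i ≠ 0 := fun h0 => hne (by rw [← hinv, h0, pow_zero, AlgEquiv.one_apply])
    omega
  subst hi3
  -- the subfield is the fixed field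
  have hfix : ∀ z : L, (Fr ^ 3) z = z → z ∈ Set.range ι := by
    intro z hz
    classical
    haveI : Fintype E := Fintype.ofFinite E
    have hcard : Fintype.card E = Fintype.card F ^ 3 := by rw [Module.card_eq_pow_finrank (K := F), hE]
    rw [AlgEquiv.coe_pow, FiniteField.coe_frobeniusAlgEquivOfAlgebraic_iterate, ← hcard] at hz
    let P : L[X] := X ^ Fintype.card E - X
    have hP : P ≠ 0 := FiniteField.X_pow_card_sub_X_ne_zero L Fintype.one_lt_card
    have hmem : ∀ e, ι e ∈ P.roots.toFinset := fun e => by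
      rw [Multiset.mem_toFinset, mem_roots hP, IsRoot.def]
      simp [P, ← map_pow, FiniteField.pow_card]
    have heq : Finset.univ.image ι = P.roots.toFinset := by
      refine Finset.eq_of_subset_of_card_le (fun y hy => ?_) ?_
      · obtain ⟨e, -, rfl⟩ := Finset.mem_image.mp hy
        exact hmem e
      · rw [Finset.card_image_of_injective _ (show Function.Injective ι from ι.toRingHom.injective), Finset.card_univ]
        refine (Multiset.toFinset_card_le _).trans ((card_roots' P).trans ?_)
        rw [FiniteField.X_pow_card_sub_X_natDegree_eq L Fintype.one_lt_card]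
    have : z ∈ P.roots.toFinset := by
      rw [Multiset.mem_toFinset, mem_roots hP, IsRoot.def]
      simp [P, hz]
    rw [← heq] at this
    obtain ⟨e, -, he⟩ := Finset.mem_image.mp this
    exact ⟨e, he⟩
  obtain ⟨t, ht⟩ := hfix (μ + μ⁻¹) (by rw [map_add, map_inv₀, hinv, inv_inv, add_comm])
  let φ : Module.End F (E × E) := twist AlgEquiv.refl 0 (-1) 1 t
  refine ⟨φ, twist_isom _ (by ring), twist_semi _ _ _ _ _, (1, 0), ?_, by simp⟩
  -- the quadratic polynomial over the subfield divides
  let π : E[X] := X ^ 2 - C t * X + 1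
  have hπ : π.map (ι : E →+* L) = (X - C μ) * (X - C μ⁻¹) := by
    have h1 : (ι : E →+* L) t = μ + μ⁻¹ := ht
    simp only [π, Polynomial.map_add, Polynomial.map_sub, Polynomial.map_pow, Polynomial.map_mul, map_X, map_C,
      Polynomial.map_one, h1, map_add]
    have h2 : C μ * C μ⁻¹ = (1 : L[X]) := by rw [← map_mul, mul_inv_cancel₀ hμ, map_one]
    linear_combination -h2
  have hdvd : π ∣ p.map (algebraMap F E) := by
    rw [← map_dvd_map' (ι : E →+* L), hπ, Polynomial.map_map, AlgHom.comp_algebraMap]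
    refine (isCoprime_X_sub_C_of_isUnit_sub (sub_ne_zero.mpr hne.symm).isUnit).mul_dvd ?_ ?_ <;>
      rw [dvd_iff_isRoot, IsRoot.def, eval_map]
    · exact hμ0
    · exact hμ'
  let Φ : Module.End E (E × E) :=
    { toFun := fun x => (-x.2, x.1 + t * x.2)
      map_add' := fun x y => by simp only [Prod.fst_add, Prod.snd_add, Prod.mk_add_mk, Prod.mk.injEq]; constructor <;> ring
      map_smul' := fun r x => by
        simp only [Prod.smul_fst, Prod.smul_snd, RingHom.id_apply, Prod.smul_mk, smul_eq_mul, Prod.mk.injEq]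
        constructor <;> ring }
  have hΦ : aeval Φ π = 0 := by
    refine LinearMap.ext fun x => ?_
    simp [π, sq, Φ, Module.algebraMap_end_apply]
    refine Prod.ext ?_ ?_ <;> simp
  obtain ⟨c, hc⟩ := hdvd
  have hp : aeval Φ (p.map (algebraMap F E)) = 0 := by rw [hc, map_mul, hΦ, zero_mul]
  rw [aeval_map_algebraMap] at hp
  have key : ∀ x, φ x = Φ x := fun x => by
    simp [φ, Φ, twist_apply]
  have h1 : ∀ (r : F[X]) x, aeval φ r x = aeval Φ r x := by
    intro r
    induction r using Polynomial.induction_on' with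
    | add a b ha hb => intro x; simp [ha, hb]
    | monomial n a =>
      intro x
      have hn : ∀ y, (φ ^ n) y = (Φ ^ n) y := by
        induction n with
        | zero => intro y; simp
        | succ n ih => intro y; rw [pow_succ, pow_succ, Module.End.mul_apply, Module.End.mul_apply, ih, key]
      simp [aeval_monomial, hn, Module.algebraMap_end_apply]
  rw [h1, hp]
  rfl

/-- Hyperbolic data. -/
def HData (φ : Module.End F (E × E)) (p : F[X]) (e : ℕ) (v w : E) : Prop :=
  Isom φ ∧ Semi φ ∧ (∀ x, (φ (x, 0)).2 = 0) ∧ (∀ y, (φ (0, y)).1 = 0) ∧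
    aeval φ (p ^ e) (v, 0) = 0 ∧ aeval φ (p ^ (e - 1)) (v, 0) ≠ 0 ∧
    aeval φ (du p ^ e) (0, w) = 0 ∧ aeval φ (du p ^ (e - 1)) (0, w) ≠ 0

theorem model_cubic (hE : Module.finrank F E = 3) {p : F[X]} (hi : Irreducible p)
    (hp0 : p.coeff 0 ≠ 0) (hdeg : p.natDegree = 3) :
    ∃ φ, HData φ p 1 (1 : E) 1 := by
  haveI : Fact (Irreducible p) := ⟨hi⟩
  haveI : Module.Finite F (AdjoinRoot p) := (AdjoinRoot.powerBasis hi.ne_zero).finite
  haveI : Finite E := Module.finite_of_finite F
  obtain ⟨ι⟩ : Nonempty (AdjoinRoot p →ₐ[F] E) := FiniteField.nonempty_algHom_of_finrank_dvd (by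
    rw [hE, (AdjoinRoot.powerBasis hi.ne_zero).finrank, AdjoinRoot.powerBasis_dim, hdeg])
  let μ : E := ι (AdjoinRoot.root p)
  have hμ0 : aeval μ p = 0 := by
    show aeval (ι _) p = 0
    rw [aeval_algHom_apply, AdjoinRoot.aeval_eq, AdjoinRoot.mk_self, map_zero]
  have hμ : μ ≠ 0 := root_ne_zero hp0 hμ0
  let φ : Module.End F (E × E) := twist AlgEquiv.refl μ 0 0 μ⁻¹
  have h1 : ∀ (r : F[X]) x, aeval φ r x = (aeval μ r * x.1, aeval μ⁻¹ r * x.2) := by
    intro r
    induction r using Polynomial.induction_on' with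
    | add a b ha hb => intro x; simp [ha, hb, add_mul]
    | monomial n a =>
      intro x
      have hn : ∀ y, (φ ^ n) y = (μ ^ n * y.1, μ⁻¹ ^ n * y.2) := by
        induction n with
        | zero => intro y; simp
        | succ n ih =>
          intro y
          rw [pow_succ, Module.End.mul_apply, ih, twist_apply]
          simp only [AlgEquiv.coe_refl, id_eq, zero_mul, add_zero, zero_add, Prod.mk.injEq]
          constructor <;> ring
      simp [aeval_monomial, hn, Module.algebraMap_end_apply, Algebra.smul_def, mul_assoc]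
  refine ⟨φ, twist_isom _ (by rw [mul_inv_cancel₀ hμ]; ring), twist_semi _ _ _ _ _, fun x => by simp [φ, twist_apply],
    fun y => by simp [φ, twist_apply], ?_, ?_, ?_, ?_⟩
  · rw [pow_one, h1]; simp [hμ0]
  · simp
  · rw [pow_one, h1]; simp [aeval_root_du hμ hμ0]
  · simp

variable (τ : E ≃ₐ[F] E) (hsum : ∀ z, τ (τ z) + τ z + z = algebraMap F E (Algebra.trace F E z))

include hsum in
theorem tau_cube (z : E) : τ (τ (τ z)) = z := by
  have h1 := congrArg τ (hsum z)
  rw [AlgEquiv.commutes, ← hsum z, map_add, map_add] at h1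
  linear_combination h1

variable [CharP E 3]

include hsum in
theorem model_linear {c : F} (hc : c ≠ 0) {z : E} (hz : Algebra.trace F E z = 1) :
    ∃ φ, HData φ (X - C c) 3 z z := by
  let a : E := algebraMap F E c
  have ha : a ≠ 0 := (_root_.map_ne_zero _).mpr hc
  let φ : Module.End F (E × E) := twist τ a 0 0 a⁻¹
  have h3 : (3 : E) = 0 := by exact_mod_cast CharP.cast_eq_zero E 3
  have hdu : du (X - C c : F[X]) = X - C c⁻¹ := by
    have hm := SUClassNumber.monic_dualP (s := RingHom.id F) (p := X - C c) (by simp [hc])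
    refine eq_of_monic_of_associated (monic_X_sub_C _) hm ?_ |>.symm
    refine associated_of_dvd_of_natDegree_le ?_ hm.ne_zero ?_
    · rw [dvd_iff_isRoot, IsRoot.def]
      have := aeval_root_du (L := F) hc (p := X - C c) (by simp)
      rwa [← coe_aeval_eq_eval]
    · rw [SUClassNumber.natDegree_dualP (by simp [hc]), natDegree_X_sub_C, natDegree_X_sub_C]
  have hs : ∀ u x, aeval φ (X - C u) x =
      (a * τ x.1 - algebraMap F E u * x.1, a⁻¹ * τ x.2 - algebraMap F E u * x.2) := by
    intro u x
    refine Prod.ext ?_ ?_ <;>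
      simp [φ, twist_apply, Module.algebraMap_end_apply, Algebra.smul_def]
  have hinv : algebraMap F E c⁻¹ = a⁻¹ := map_inv₀ _ _
  have hta : τ a = a := AlgEquiv.commutes τ c
  have htai : τ a⁻¹ = a⁻¹ := by rw [map_inv₀, hta]
  have hz' : τ (τ z) + τ z + z = 1 := by rw [hsum, hz, map_one]
  have e2 : ∀ u, τ (τ u) - τ u - τ u + u = τ (τ u) + τ u + u := fun u => by linear_combination (-τ u) * h3
  refine ⟨φ, twist_isom _ (by rw [mul_inv_cancel₀ ha]; ring), twist_semi _ _ _ _ _, fun x => by simp [φ, twist_apply],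
    fun y => by simp [φ, twist_apply], ?_, ?_, ?_, ?_⟩
  · rw [pow_succ, pow_two, map_mul, map_mul, Module.End.mul_apply, Module.End.mul_apply, hs, hs, hs]
    simp only [map_sub, map_mul, hta, map_zero, mul_zero, sub_zero, Prod.mk_eq_zero, and_true, show algebraMap F E c = a from rfl]
    linear_combination a ^ 3 * (tau_cube τ hsum z) + a ^ 3 * (τ z - τ (τ z)) * h3
  · rw [show (3 : ℕ) - 1 = 2 from rfl, pow_two, map_mul, Module.End.mul_apply, hs, hs]
    simp only [map_sub, map_mul, hta, map_zero, mul_zero, sub_zero, ne_eq, Prod.mk_eq_zero, and_true, show algebraMap F E c = a from rfl]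
    intro h0
    have h4 : a ^ 2 * (τ (τ z) + τ z + z) = 0 := by linear_combination h0 + a ^ 2 * τ z * h3
    rw [hz', mul_one] at h4
    exact ha (pow_eq_zero_iff two_ne_zero |>.mp h4)
  · rw [hdu, pow_succ, pow_two, map_mul, map_mul, Module.End.mul_apply, Module.End.mul_apply, hs, hs, hs]
    simp only [map_sub, map_mul, htai, hinv, map_zero, mul_zero, sub_zero, Prod.mk_eq_zero, true_and]
    linear_combination a⁻¹ ^ 3 * (tau_cube τ hsum z) + a⁻¹ ^ 3 * (τ z - τ (τ z)) * h3
  · rw [hdu, show (3 : ℕ) - 1 = 2 from rfl, pow_two, map_mul, Module.End.mul_apply, hs, hs]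
    simp only [map_sub, map_mul, htai, hinv, map_zero, mul_zero, sub_zero, ne_eq, Prod.mk_eq_zero, true_and]
    intro h0
    have h4 : a⁻¹ ^ 2 * (τ (τ z) + τ z + z) = 0 := by linear_combination h0 + a⁻¹ ^ 2 * τ z * h3
    rw [hz', mul_one] at h4
    exact inv_ne_zero ha (pow_eq_zero_iff two_ne_zero |>.mp h4)

include hsum in
theorem model_regular [CharP F 3] {a d : F} (ha : a * a = 1) (hd : d ≠ 0) {z : E} (hz : Algebra.trace F E z = 1) :
    ∃ φ : Module.End F (E × E), Isom φ ∧ Semi φ ∧ ∃ v, aeval φ ((X - C a) ^ 6) v = 0 ∧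
      aeval φ ((X - C a) ^ 5) v ≠ 0 ∧ form F E v (aeval φ ((X - C a) ^ 5) v) = d := by
  have h3 : (3 : E) = 0 := by exact_mod_cast CharP.cast_eq_zero E 3
  let s : F := -(a * d)
  let A : E := algebraMap F E a
  let c : E := algebraMap F E s * z
  have hA : A * A = 1 := by rw [← map_mul, ha, map_one]
  let φ : Module.End F (E × E) := twist τ A (A * c) 0 A
  refine ⟨φ, twist_isom _ (by linear_combination hA), twist_semi _ _ _ _ _, (0, z), ?_⟩
  let n : E × E → E × E := fun x => (τ x.1 + c * τ x.2 - x.1, τ x.2 - x.2)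
  have hs : ∀ x, aeval φ (X - C a) x = (A * (n x).1, A * (n x).2) := by
    intro x
    refine Prod.ext ?_ ?_ <;>
      simp [φ, n, A, twist_apply, Module.algebraMap_end_apply, Algebra.smul_def] <;> ring
  have htA : τ A = A := AlgEquiv.commutes τ a
  have hn : ∀ x, n (A * x.1, A * x.2) = (A * (n x).1, A * (n x).2) := by
    intro x
    simp only [n, map_mul, htA, Prod.mk.injEq]
    constructor <;> ring
  have hpow : ∀ k x, aeval φ ((X - C a) ^ k) x = (A ^ k * ((n^[k]) x).1, A ^ k * ((n^[k]) x).2) := by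
    intro k
    induction k with
    | zero => intro x; simp
    | succ k ih =>
      intro x
      rw [pow_succ', map_mul, Module.End.mul_apply, ih, hs, Function.iterate_succ_apply']
      clear ih
      induction k with
      | zero => simp
      | succ j _ =>
        have hj : ∀ (j : ℕ) (y : E × E), n (A ^ j * y.1, A ^ j * y.2) = (A ^ j * (n y).1, A ^ j * (n y).2) := by
          intro j y
          simp only [n, map_mul, map_pow, htA, Prod.mk.injEq]
          constructor <;> ring
        rw [hj]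
        simp only [Prod.mk.injEq]
        constructor <;> ring
  have hz' : τ (τ z) + τ z + z = 1 := by rw [hsum, hz, map_one]
  have hS : τ (algebraMap F E s) = algebraMap F E s := AlgEquiv.commutes τ s
  have h5 : n (n (n (n (n (0, z))))) = (algebraMap F E s, 0) := by
    have e1 : τ (τ z) = 1 - τ z - z := by linear_combination hz'
    have e3 : τ (τ (τ z)) = z := tau_cube τ hsum z
    simp only [n, c, map_add, map_sub, map_mul, map_zero, map_one, hS, e3, e1, Prod.mk.injEq]
    constructor
    · ring_nf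
      grind
    · ring_nf
      grind
  refine ⟨?_, ?_, ?_⟩
  · rw [hpow, show n^[6] (0, z) = n (n (n (n (n (n (0, z)))))) from rfl, h5]
    simp [n, hS]
  · rw [hpow, show n^[5] (0, z) = n (n (n (n (n (0, z))))) from rfl, h5]
    simp [s, A, hd, left_ne_zero_of_mul_eq_one ha]
  · rw [hpow, show n^[5] (0, z) = n (n (n (n (n (0, z))))) from rfl, h5, form_apply]
    simp only [mul_zero, zero_mul, zero_sub]
    have hA5 : A ^ 5 = A := by linear_combination A * (A * A + 1) * hA
    rw [hA5, show -(z * (A * algebraMap F E s)) = (-(a * s)) • z by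
      simp only [Algebra.smul_def, map_neg, map_mul, s, A]; ring, map_smul, hz, smul_eq_mul, mul_one]
    simp only [s]
    linear_combination d * ha

include hsum in
theorem model_quad [CharP F 3] {t : F} (ht : t * t ≠ 1) {z : E} (hz : Algebra.trace F E z = 1) :
    ∃ φ : Module.End F (E × E), Isom φ ∧ Semi φ ∧ ∃ v, aeval φ ((X ^ 2 - C t * X + 1) ^ 3) v = 0 ∧
      aeval φ ((X ^ 2 - C t * X + 1) ^ 2) v ≠ 0 := by
  haveI : Fact (Nat.Prime 3) := ⟨Nat.prime_three⟩
  have h3 : (3 : E) = 0 := by exact_mod_cast CharP.cast_eq_zero E 3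
  let T : E := algebraMap F E t
  let φ : Module.End F (E × E) := twist τ 0 (-1) 1 T
  let A : Module.End F (E × E) := twist AlgEquiv.refl 0 (-1) 1 T
  have hT : τ T = T := AlgEquiv.commutes τ t
  refine ⟨φ, twist_isom _ (by ring), twist_semi _ _ _ _ _, (z, 0), ?_, ?_⟩
  · have hA : aeval A (X ^ 2 - C t * X + 1) = 0 := by
      refine LinearMap.ext fun x => ?_
      refine Prod.ext ?_ ?_ <;>
        simp [A, T, sq, twist_apply, Module.algebraMap_end_apply, Algebra.smul_def] <;> ring
    have hcube : φ ^ 3 = A ^ 3 := by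
      refine LinearMap.ext fun x => ?_
      simp only [pow_succ, pow_zero, one_mul, Module.End.mul_apply, φ, A, twist_apply, map_add, map_mul, map_neg,
        map_one, map_zero, hT, tau_cube τ hsum, AlgEquiv.coe_refl, id_eq]
    have hp : ∀ ψ : Module.End F (E × E), aeval ψ ((X ^ 2 - C t * X + 1 : F[X]) ^ 3) =
        (ψ ^ 3) ^ 2 - algebraMap F _ (t ^ 3) * ψ ^ 3 + 1 := by
      intro ψ
      rw [add_pow_char, sub_pow_char, mul_pow, one_pow, ← pow_mul, ← C_pow]
      simp [← pow_mul]
    have h1 : aeval φ ((X ^ 2 - C t * X + 1 : F[X]) ^ 3) = 0 := by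
      rw [hp, hcube, ← hp, map_pow, hA, zero_pow (by norm_num)]
    rw [h1]
    rfl
  · intro h0
    have h1 := congrArg Prod.fst h0
    have e1 : τ (τ z) = 1 - τ z - z := by linear_combination (hsum z).trans (by rw [hz, map_one])
    simp [φ, T, sq, twist_apply, Module.algebraMap_end_apply, Algebra.smul_def, tau_cube τ hsum] at h1
    apply ht
    have h2 : (1 - T * T) * (τ (τ z) + τ z + z) = 0 := by
      show (1 - algebraMap F E t * algebraMap F E t) * _ = 0
      ring_nf at h1 ⊢
      grind
    rw [show τ (τ z) + τ z + z = 1 by rw [e1]; ring, mul_one, sub_eq_zero, ← map_mul] at h2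
    exact (algebraMap F E).injective (by rw [map_one]; exact h2.symm)

end CfsgLib.NormalCover.Sp6
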