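import Cfsg.Prelude.Def_Classical
import Cfsg.Agent.Lib.NormalCover.Sp6Model
import Cfsg.Agent.Lib.IsometryClasses.UniCount
import Cfsg.Agent.Lib.SympTransvection

/-!
In characteristic `3` the group `PSp₆(q)` is covered by the conjugates of the stabiliser of a non-degenerate
plane and of a semilinear subgroup over the cubic extension.
-/

set_option autoImplicit false
set_option linter.unusedSectionVars false

namespace CfsgLib.NormalCover.Sp6

open Polynomial Matrix CfsgLib.IsometryClasses

universe u v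

section criteria

variable {K : Type u} [Field K] [Fintype K] {V : Type v} [AddCommGroup V] [Module K V] [FiniteDimensional K V]
  {B : V →ₗ[K] V →ₗ[K] K} {x : Module.End K V} {ε : K} {N : ℕ}

theorem range_eq_top_of_cyclic {p : K[X]} {e : ℕ} (hm : p.Monic) (hi : Irreducible p) {v : V}
    (hk : act x (p ^ e) v = 0) (hq : act x (p ^ (e - 1)) v ≠ 0) (hd : e * p.natDegree = Module.finrank K V) :
    LinearMap.range (orb x v) = ⊤ := by
  refine Submodule.eq_top_of_finrank_eq ?_
  rw [finrank_range_orb (hm.pow e) (fun a => ⟨exact_dvd hi hk hq, act_zero_of_dvd hk⟩), natDegree_pow, hd]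

theorem isC_of_cyclic (h : Ctx B x ε N) (hB : ∀ u, (∀ w, B w u = 0) → u = 0) {p : K[X]} {e : ℕ} (hm : p.Monic)
    (hi : Irreducible p) (he : 1 ≤ e) (hp0 : p.coeff 0 ≠ 0) (hsd : du p = p) {v : V}
    (hk : act x (p ^ e) v = 0) (hq : act x (p ^ (e - 1)) v ≠ 0) (hd : e * p.natDegree = Module.finrank K V) :
    IsC B x p e v := by
  refine ⟨hm, hi, he, hp0, hsd, hk, ?_⟩
  by_contra hno
  push Not at hno
  refine hq (hB _ fun w => ?_)
  obtain ⟨a, rfl⟩ : w ∈ LinearMap.range (orb x v) := by
    rw [range_eq_top_of_cyclic hm hi hk hq hd]; trivial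
  rw [orb_apply, h.gram_act]
  exact hno _

theorem isH_of_axes (h : Ctx B x ε N) (hB : ∀ u, (∀ w, B w u = 0) → u = 0) {p : K[X]} {e : ℕ} (hm : p.Monic)
    (hi : Irreducible p) (he : 1 ≤ e) (hp0 : p.coeff 0 ≠ 0)
    (hshape : p ≠ du p ∨ (IsPM p ∧ ε * (-1) ^ (e - 1) = -1)) {P Q : Submodule K V} (hPx : Inv x P) (hQx : Inv x Q)
    (hPQ : P ⊓ Q = ⊥) (hP : ∀ a ∈ P, ∀ b ∈ P, B a b = 0) (hQ : ∀ a ∈ Q, ∀ b ∈ Q, B a b = 0) {v w : V}
    (hv : v ∈ P) (hw : w ∈ Q) (hk : act x (p ^ e) v = 0) (hq : act x (p ^ (e - 1)) v ≠ 0)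
    (hk' : act x (du p ^ e) w = 0) (hq' : act x (du p ^ (e - 1)) w ≠ 0)
    (hd : e * p.natDegree * 2 = Module.finrank K V) :
    IsH B x ε p e v w ∧ LinearMap.range (orb x v) ⊔ LinearMap.range (orb x w) = ⊤ := by
  obtain ⟨hm', hi', -, hdeg⟩ := du_props ⟨hm, hi⟩ hp0
  have hA : LinearMap.range (orb x v) ≤ P := by rintro - ⟨a, rfl⟩; exact hPx.act_mem a hv
  have hC : LinearMap.range (orb x w) ≤ Q := by rintro - ⟨a, rfl⟩; exact hQx.act_mem a hw
  have htop : LinearMap.range (orb x v) ⊔ LinearMap.range (orb x w) = ⊤ := by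
    refine Submodule.eq_top_of_finrank_eq ?_
    have h1 := Submodule.finrank_sup_add_finrank_inf_eq (LinearMap.range (orb x v)) (LinearMap.range (orb x w))
    rw [eq_bot_iff.mpr ((inf_le_inf hA hC).trans hPQ.le), finrank_bot, add_zero,
      finrank_range_orb (hm.pow e) (fun a => ⟨exact_dvd hi hk hq, act_zero_of_dvd hk⟩),
      finrank_range_orb (hm'.pow e) (fun a => ⟨exact_dvd hi' hk' hq', act_zero_of_dvd hk'⟩),
      natDegree_pow, natDegree_pow, hdeg] at h1
    rw [h1, ← hd]
    ring
  have hiv : ∀ r, gram B x v v r = 0 := fun r => by rw [IsometryClasses.gram_apply]; exact hP _ hv _ (hPx.act_mem r hv)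
  have hiw : ∀ r, gram B x w w r = 0 := fun r => by rw [IsometryClasses.gram_apply]; exact hQ _ hw _ (hQx.act_mem r hw)
  refine ⟨⟨hm, hi, he, hp0, hshape, hk, hk', hiv, hiw, ?_⟩, htop⟩
  by_contra hno
  push Not at hno
  refine hq (hB _ fun u => ?_)
  have hu : u ∈ LinearMap.range (orb x v) ⊔ LinearMap.range (orb x w) := by rw [htop]; trivial
  obtain ⟨-, ⟨a, rfl⟩, -, ⟨b, rfl⟩, rfl⟩ := Submodule.mem_sup.mp hu
  rw [map_add, LinearMap.add_apply, orb_apply, orb_apply, h.gram_act, h.gram_act, hiv, hno, add_zero]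

/-- An alternating non-degenerate subspace has even dimension. -/
theorem even_finrank (h : Ctx B x (-1) N) {W : Submodule K V} (hW : Nd B W) : Even (Module.finrank K W) := by
  classical
  rw [← Nat.not_odd_iff_even]
  intro hodd
  let b := Module.finBasis K W
  let M : Matrix (Fin (Module.finrank K W)) (Fin (Module.finrank K W)) K := Matrix.of fun i j => B (b i : V) (b j)
  have hskew : Mᵀ = -M := by
    ext i j
    show B (b j : V) (b i) = -B (b i : V) (b j)
    rw [h.symm, neg_one_mul]
  have hdet : M.det = 0 := by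
    have h1 := congrArg Matrix.det hskew
    rw [det_transpose, det_neg, Fintype.card_fin, hodd.neg_one_pow, neg_one_mul] at h1
    have h2 : (2 : K) * M.det = 0 := by linear_combination h1
    exact (mul_eq_zero.mp h2).resolve_left h.two
  obtain ⟨c, hc, hMc⟩ := Matrix.exists_mulVec_eq_zero_iff.mpr hdet
  apply hc
  have hz : (∑ j, c j • (b j : V)) = 0 := by
    refine hW _ (Submodule.sum_mem _ fun j _ => Submodule.smul_mem _ _ (b j).2) fun w hw => ?_
    have hw' : w = ∑ i, b.equivFun ⟨w, hw⟩ i • (b i : V) := by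
      refine (congrArg Subtype.val (b.sum_equivFun ⟨w, hw⟩)).symm.trans ?_
      rw [Submodule.coe_sum]
      rfl
    rw [hw', map_sum B, LinearMap.sum_apply]
    refine Finset.sum_eq_zero fun i _ => ?_
    rw [map_smul, LinearMap.smul_apply, map_sum]
    have hi := congrFun hMc i
    simp only [Matrix.mulVec, dotProduct, M, Matrix.of_apply, Pi.zero_apply] at hi
    rw [show (∑ j, B (b i : V) (c j • (b j : V))) = 0 by
      rw [← hi]; exact Finset.sum_congr rfl fun j _ => by rw [map_smul, smul_eq_mul, mul_comm], smul_zero]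
  have hz' : ∑ j, c j • b j = 0 := Subtype.ext (by rw [Submodule.coe_sum]; exact hz)
  exact funext (Fintype.linearIndependent_iff.mp b.linearIndependent c hz')

end criteria

variable {F : Type u} [Field F] [Fintype F]

local notation "Vec" => (Fin 3 ⊕ Fin 3 → F)
local notation "G" => Matrix.symplecticGroup (Fin 3) F
local notation "Bf" => spForm 3 F

theorem sp_alt (h2 : (2 : F) ≠ 0) (u : Vec) : Bf u u = 0 := by
  have h := spForm_symm u u
  have h' : (2 : F) * Bf u u = 0 := by linear_combination h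
  exact (mul_eq_zero.mp h').resolve_left h2

theorem sp_iso (g : G) (u w : Vec) : Bf (g.1 *ᵥ u) (g.1 *ᵥ w) = Bf u w := (mem_sp_iff g.1).mp g.2 u w

theorem inv_mulVec (g : G) (u : Vec) : (g⁻¹).1 *ᵥ (g.1 *ᵥ u) = u := by
  rw [mulVec_mulVec, ← Submonoid.coe_mul, inv_mul_cancel, OneMemClass.coe_one, one_mulVec]

theorem mulVec_inv (g : G) (u : Vec) : g.1 *ᵥ ((g⁻¹).1 *ᵥ u) = u := by
  rw [mulVec_mulVec, ← Submonoid.coe_mul, mul_inv_cancel, OneMemClass.coe_one, one_mulVec]

/-- An element carrying one symplectic pair to another. -/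
theorem pair_trans (h2 : (2 : F) ≠ 0) {e f u w : Vec} (hef : Bf e f = 1) (huw : Bf u w = 1) :
    ∃ x : G, x.1 *ᵥ u = e ∧ x.1 *ᵥ w = f := by
  have hne : ∀ {a b : Vec}, Bf a b = 1 → a ≠ 0 := fun hab h0 => by
    rw [h0, map_zero, LinearMap.zero_apply] at hab; exact zero_ne_one hab
  obtain ⟨x₁, hx₁⟩ := SympTransvection.transitive (hne huw) (hne hef)
  have step : ∀ a b : Vec, Bf e a = 1 → Bf e b = 1 → Bf a b ≠ 0 → ∃ t : G, t.1 *ᵥ e = e ∧ t.1 *ᵥ a = b := by
    intro a b ha hb hab
    refine ⟨SympTransvection.tv (b - a) (Bf a b)⁻¹, ?_, ?_⟩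
    · show Cfsg.sympTransvection 3 (b - a) _ *ᵥ e = e
      rw [SympTransvection.mulVec_eq, ← spForm_apply, map_sub, ha, hb, sub_self, mul_zero, zero_smul, add_zero]
    · show Cfsg.sympTransvection 3 (b - a) _ *ᵥ a = b
      rw [SympTransvection.mulVec_eq, ← spForm_apply, map_sub, sp_alt h2, sub_zero, inv_mul_cancel₀ hab, one_smul,
        add_sub_cancel]
  set w₁ := x₁.1 *ᵥ w with hw₁
  have hew : Bf e w₁ = 1 := by rw [hw₁, ← hx₁, sp_iso, huw]
  obtain ⟨t, hte, htw⟩ : ∃ t : G, t.1 *ᵥ e = e ∧ t.1 *ᵥ w₁ = f := by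
    by_cases h : Bf w₁ f = 0
    · have hwe : Bf w₁ e = -1 := by rw [spForm_symm, hew, mul_one]
      have h1 : Bf w₁ (w₁ + e) ≠ 0 := by
        rw [map_add, sp_alt h2, zero_add, hwe]; exact neg_ne_zero.mpr one_ne_zero
      have h2' : Bf (w₁ + e) f ≠ 0 := by
        rw [map_add, LinearMap.add_apply, h, zero_add, hef]; exact one_ne_zero
      have h3 : Bf e (w₁ + e) = 1 := by rw [map_add, hew, sp_alt h2, add_zero]
      obtain ⟨t₁, a1, a2⟩ := step _ _ hew h3 h1
      obtain ⟨t₂, b1, b2⟩ := step _ _ h3 hef h2'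
      exact ⟨t₂ * t₁, by rw [Submonoid.coe_mul, ← mulVec_mulVec, a1, b1],
        by rw [Submonoid.coe_mul, ← mulVec_mulVec, a2, b2]⟩
    · exact step _ _ hew hef h
  exact ⟨t * x₁, by rw [Submonoid.coe_mul, ← mulVec_mulVec, hx₁, hte],
    by rw [Submonoid.coe_mul, ← mulVec_mulVec, ← hw₁, htw]⟩

/-- The stabiliser of a subspace. -/
def planeStab (U : Submodule F Vec) : Subgroup G where
  carrier := {g | ∀ x ∈ U, g.1 *ᵥ x ∈ U}
  mul_mem' {a b} ha hb x hx := by rw [Submonoid.coe_mul, ← mulVec_mulVec]; exact ha _ (hb x hx)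
  one_mem' x hx := by rw [OneMemClass.coe_one, one_mulVec]; exact hx
  inv_mem' {a} ha x hx := by
    obtain ⟨k, hk⟩ : ∃ k : ℕ, a⁻¹ = a ^ k :=
      ⟨orderOf a - 1, inv_eq_of_mul_eq_one_right (by
        rw [← pow_succ', Nat.sub_add_cancel (orderOf_pos a), pow_orderOf_eq_one])⟩
    rw [hk]
    clear hk
    induction k generalizing x with
    | zero => rw [pow_zero, OneMemClass.coe_one, one_mulVec]; exact hx
    | succ k ih => rw [pow_succ, Submonoid.coe_mul, ← mulVec_mulVec]; exact ih _ (ha x hx)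

/-- An element with an invariant non-degenerate plane is conjugate into the plane stabiliser. -/
theorem into_planeStab (h2 : (2 : F) ≠ 0) {e f : Vec} (hef : Bf e f = 1) (g : G) {W : Submodule F Vec}
    (hW : Module.finrank F W = 2) (hnd : Nd Bf W) (hinv : Inv (Matrix.toLinAlgEquiv' g.1) W) :
    ∃ x : G, x * g * x⁻¹ ∈ planeStab (Submodule.span F (Set.range ![e, f])) := by
  have hne : W ≠ ⊥ := fun h0 => by rw [h0, finrank_bot] at hW; omega
  obtain ⟨u, hu, hu0⟩ := Submodule.exists_mem_ne_zero_of_ne_bot hne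
  obtain ⟨w, hw, hwu⟩ : ∃ w ∈ W, Bf u w ≠ 0 := by
    by_contra hno
    push Not at hno
    exact hu0 (hnd u hu fun w hw => by rw [spForm_symm, hno w hw, mul_zero])
  let w' := (Bf u w)⁻¹ • w
  have huw : Bf u w' = 1 := by rw [map_smul, smul_eq_mul, inv_mul_cancel₀ hwu]
  obtain ⟨x, hxu, hxw⟩ := pair_trans h2 hef huw
  have hind : LinearIndependent F ![u, w'] := by
    rw [LinearIndependent.pair_iff' hu0]
    intro a ha
    rw [← ha, map_smul, sp_alt h2, smul_zero] at huw
    exact zero_ne_one huw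
  have hspan : Submodule.span F (Set.range ![u, w']) = W := by
    refine Submodule.eq_of_le_of_finrank_eq (Submodule.span_le.mpr ?_) ?_
    · rintro _ ⟨i, rfl⟩
      fin_cases i
      · exact hu
      · exact W.smul_mem _ hw
    · rw [finrank_span_eq_card hind, Fintype.card_fin, hW]
  refine ⟨x, fun y hy => ?_⟩
  obtain ⟨c, rfl⟩ := (Submodule.mem_span_range_iff_exists_fun F).mp hy
  have hpre : (x⁻¹).1 *ᵥ (∑ i, c i • ![e, f] i) ∈ W := by
    rw [Fin.sum_univ_two]
    simp only [Matrix.cons_val_zero, Matrix.cons_val_one, mulVec_add, mulVec_smul]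
    rw [← hxu, ← hxw, inv_mulVec, inv_mulVec]
    exact add_mem (W.smul_mem _ hu) (W.smul_mem _ (W.smul_mem _ hw))
  have hg := hinv _ hpre
  rw [Matrix.toLinAlgEquiv'_apply, ← hspan] at hg
  obtain ⟨d, hd⟩ := (Submodule.mem_span_range_iff_exists_fun F).mp hg
  rw [Submonoid.coe_mul, Submonoid.coe_mul, ← mulVec_mulVec, ← mulVec_mulVec, ← hd, Fin.sum_univ_two (f := fun i => d i • ![u, w'] i)]
  simp only [Matrix.cons_val_zero, Matrix.cons_val_one, mulVec_add, mulVec_smul, hxu, hxw]
  exact add_mem (Submodule.smul_mem _ _ (Submodule.subset_span ⟨0, rfl⟩))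
    (Submodule.smul_mem _ _ (Submodule.subset_span ⟨1, rfl⟩))

/-- The orthogonal complement of an invariant non-degenerate subspace. -/
theorem perp_piece (g : G) {N : ℕ} (h : Ctx Bf (Matrix.toLinAlgEquiv' g.1) (-1) N) {W : Submodule F Vec}
    (hnd : Nd Bf W) (hinv : Inv (Matrix.toLinAlgEquiv' g.1) W) :
    ∃ W' : Submodule F Vec, Module.finrank F W + Module.finrank F W' = 6 ∧ Nd Bf W' ∧
      Inv (Matrix.toLinAlgEquiv' g.1) W' := by
  obtain ⟨π, hπ1, hπ2, hπ3, hπ4⟩ := exists_proj h hnd hinv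
  refine ⟨LinearMap.ker π, ?_, ?_, ?_⟩
  · have hr : LinearMap.range π = W := le_antisymm (by rintro - ⟨u, rfl⟩; exact hπ1 u) fun u hu => ⟨u, hπ2 u hu⟩
    have h1 := LinearMap.finrank_range_add_finrank_ker π
    rw [hr, Module.finrank_pi, Fintype.card_sum, Fintype.card_fin] at h1
    exact h1
  · intro u hu hz
    refine spForm_nd u fun w => ?_
    have hker : w - π w ∈ LinearMap.ker π := by
      rw [LinearMap.mem_ker, map_sub, hπ2 _ (hπ1 w), sub_self]
    have h1 := hz _ hker
    rw [map_sub, LinearMap.sub_apply, ← hπ3 u (π w) (hπ1 w), LinearMap.mem_ker.mp hu, map_zero, sub_zero] at h1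
    exact h1
  · intro u hu
    rw [LinearMap.mem_ker] at hu ⊢
    rw [hπ4, hu, map_zero]

/-- Conjugacy from an isometry of the whole space. -/
theorem conj_of_iso (g k : G) {T : Vec →ₗ[F] Vec} {U U' : Submodule F Vec} (hU : U = ⊤)
    (hT : Iso Bf (Matrix.toLinAlgEquiv' g.1) Bf (Matrix.toLinAlgEquiv' k.1) U U' T) :
    ∃ x : G, x * g * x⁻¹ = k := by
  subst hU
  let x : G := ⟨LinearMap.toMatrix' T, (mem_sp_iff _).mpr fun u w => by
    rw [LinearMap.toMatrix'_mulVec, LinearMap.toMatrix'_mulVec]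
    exact hT.pres u trivial w trivial⟩
  refine ⟨x, mul_inv_eq_iff_eq_mul.mpr (Subtype.ext (Matrix.ext_of_mulVec_single fun i => ?_))⟩
  rw [Submonoid.coe_mul, Submonoid.coe_mul, ← mulVec_mulVec, ← mulVec_mulVec]
  show LinearMap.toMatrix' T *ᵥ _ = k.1 *ᵥ (LinearMap.toMatrix' T *ᵥ _)
  rw [LinearMap.toMatrix'_mulVec, LinearMap.toMatrix'_mulVec]
  exact hT.comm _ trivial

/-- An identification of the standard space with pairs over the cubic extension. -/
theorem exists_transport {E : Type v} [Field E] [Algebra F E] [FiniteDimensional F E] [Algebra.IsSeparable F E]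
    (hE : Module.finrank F E = 3) :
    ∃ S : Vec ≃ₗ[F] E × E, ∀ u w, form F E (S u) (S w) = Bf u w := by
  classical
  let b := Module.finBasisOfFinrankEq F E hE
  let b' := (Algebra.traceForm F E).dualBasis (traceForm_nondegenerate F E) b
  have hd : ∀ i j, Algebra.trace F E (b' i * b j) = if j = i then 1 else 0 := fun i j => by
    rw [← Algebra.traceForm_apply]
    exact LinearMap.BilinForm.apply_dualBasis_left (hB := traceForm_nondegenerate F E) b i j
  let S : Vec ≃ₗ[F] E × E :=
    (LinearEquiv.sumArrowLequivProdArrow (Fin 3) (Fin 3) F F).trans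
      ((LinearEquiv.prodComm F (Fin 3 → F) (Fin 3 → F)).trans (b.equivFun.symm.prodCongr b'.equivFun.symm))
  have hS : ∀ u, S u = (∑ i, u (.inr i) • b i, ∑ i, u (.inl i) • b' i) := fun u => by
    show (b.equivFun.symm (fun i => u (.inr i)), b'.equivFun.symm (fun i => u (.inl i))) = _
    rw [Module.Basis.equivFun_symm_apply, Module.Basis.equivFun_symm_apply]
  have key : ∀ (c d : Fin 3 → F), Algebra.trace F E ((∑ i, c i • b i) * (∑ j, d j • b' j)) = ∑ i, c i * d i := by
    intro c d
    rw [Finset.sum_mul, map_sum]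
    refine Finset.sum_congr rfl fun i _ => ?_
    rw [Finset.mul_sum, map_sum, Finset.sum_eq_single i]
    · rw [smul_mul_smul_comm, map_smul, mul_comm (b i), hd, if_pos rfl, smul_eq_mul, mul_one]
    · intro j _ hj
      rw [smul_mul_smul_comm, map_smul, mul_comm (b i), hd, if_neg (Ne.symm hj), smul_zero]
    · intro h0
      exact absurd (Finset.mem_univ i) h0
  refine ⟨S, fun u w => ?_⟩
  rw [form_apply, hS, hS, map_sub, key, mul_comm (∑ i, u (.inl i) • b' i), key, spForm_apply]
  simp [Matrix.J, dotProduct, Fintype.sum_sum_type, Matrix.fromBlocks_mulVec, Matrix.neg_mulVec]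
  ring_nf
  simp only [mul_comm]

/-- The semilinear subgroup. -/
def semiGroup {E : Type v} [Field E] [Algebra F E] (S : Vec ≃ₗ[F] E × E) : Subgroup G where
  carrier := {g | ∀ e : E, ∃ e' : E, ∀ x, S (g.1 *ᵥ S.symm (e • x)) = e' • S (g.1 *ᵥ S.symm x)}
  mul_mem' := by
    intro g k hg hk e
    obtain ⟨e', he'⟩ := hk e
    obtain ⟨e'', he''⟩ := hg e'
    refine ⟨e'', fun x => ?_⟩
    have h1 := he'' (S (k.1 *ᵥ S.symm x))
    rw [← he', S.symm_apply_apply, S.symm_apply_apply] at h1
    rw [Submonoid.coe_mul, ← mulVec_mulVec, ← mulVec_mulVec]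
    exact h1
  one_mem' := fun e => ⟨e, fun x => by simp only [OneMemClass.coe_one, one_mulVec, S.apply_symm_apply]⟩
  inv_mem' := by
    intro g hg
    obtain ⟨n, hn⟩ : ∃ n : ℕ, g⁻¹ = g ^ n :=
      ⟨orderOf g - 1, inv_eq_of_mul_eq_one_right (by
        rw [← pow_succ', Nat.sub_add_cancel (orderOf_pos g), pow_orderOf_eq_one])⟩
    rw [hn]
    clear hn
    induction n with
    | zero => exact fun e => ⟨e, fun x => by simp only [pow_zero, OneMemClass.coe_one, one_mulVec, S.apply_symm_apply]⟩
    | succ n ih =>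
      intro e
      obtain ⟨e', he'⟩ := hg e
      obtain ⟨e'', he''⟩ := ih e'
      refine ⟨e'', fun x => ?_⟩
      have h1 := he'' (S (g.1 *ᵥ S.symm x))
      rw [← he', S.symm_apply_apply, S.symm_apply_apply] at h1
      rw [pow_succ, Submonoid.coe_mul, ← mulVec_mulVec, ← mulVec_mulVec]
      exact h1

theorem semiGroup_ne_top {E : Type v} [Field E] [Algebra F E] [FiniteDimensional F E]
    (hE : Module.finrank F E = 3) (h2 : (2 : F) ≠ 0) (S : Vec ≃ₗ[F] E × E) : semiGroup S ≠ ⊤ := by
  intro htop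
  let u : Vec := Pi.single (.inr 0) 1
  have hu : u ≠ 0 := by simp [u]
  let t := SympTransvection.tv u (1 : F)
  have ht : t ∈ semiGroup S := by rw [htop]; exact Subgroup.mem_top _
  let f : (E × E) →ₗ[F] F := ((spForm 3 F).flip u).comp S.symm.toLinearMap
  have hf : ∀ x, f x = Bf (S.symm x) u := fun x => rfl
  have hphi : ∀ x, S (t.1 *ᵥ S.symm x) = x + f x • S u := by
    intro x
    show S (Cfsg.sympTransvection 3 u 1 *ᵥ S.symm x) = _
    rw [SympTransvection.mulVec_eq, one_mul, ← spForm_apply, map_add, map_smul, S.apply_symm_apply, hf]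
  have hlin : ∀ (e : E) (x : E × E), f (e • x) • S u = f x • (e • S u) := by
    intro e
    obtain ⟨e', he'⟩ := ht e
    have hee : e' = e := by
      let Le : (E × E) →ₗ[F] E × E := e • LinearMap.id
      let P : (E × E) →ₗ[F] F × F := f.prod (f.comp Le)
      obtain ⟨x, hx, hx0⟩ := Submodule.exists_mem_ne_zero_of_ne_bot (p := LinearMap.ker P) (fun hb => by
        have h1 := LinearMap.finrank_range_add_finrank_ker P
        have h2' := Submodule.finrank_le (LinearMap.range P)
        rw [hb, finrank_bot, Module.finrank_prod, hE] at h1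
        rw [Module.finrank_prod, Module.finrank_self] at h2'
        omega)
      obtain ⟨hx1, hx2⟩ : f x = 0 ∧ f (e • x) = 0 := Prod.ext_iff.mp (LinearMap.mem_ker.mp hx)
      have h1 := he' x
      rw [hphi, hphi, hx1, hx2, zero_smul, add_zero, add_zero] at h1
      have h1' : (e' - e) • x = 0 := by rw [sub_smul, h1, sub_self]
      exact sub_eq_zero.mp ((smul_eq_zero.mp h1').resolve_right hx0)
    intro x
    have h1 := he' x
    rw [hphi, hphi, hee, smul_add, smul_comm e (f x)] at h1
    exact add_left_cancel h1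
  obtain ⟨w, hw⟩ := SympTransvection.exists_dot_ne hu
  have hw' : f (S w) ≠ 0 := by rw [hf, S.symm_apply_apply, spForm_apply]; exact hw
  have hSu : S u ≠ 0 := fun h0 => hu (S.injective (by rw [h0, map_zero]))
  have hscal : ∀ e : E, ∃ c : F, algebraMap F E c = e := by
    intro e
    refine ⟨f (e • S w) / f (S w), ?_⟩
    have h1 := hlin e (S w)
    have h2' : (algebraMap F E (f (e • S w) / f (S w)) - e) • S u = 0 := by
      rw [sub_smul, algebraMap_smul, div_eq_inv_mul, mul_smul, h1, inv_smul_smul₀ hw', sub_self]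
    exact sub_eq_zero.mp ((smul_eq_zero.mp h2').resolve_right hSu)
  have hbot : Module.finrank F E ≤ 1 := by
    refine finrank_le_one (1 : E) fun e => ?_
    obtain ⟨c, hc⟩ := hscal e
    exact ⟨c, by rw [Algebra.smul_def, mul_one, hc]⟩
  omega

/-- Elements of the semilinear group from models. -/
theorem exists_semi_elt {E : Type v} [Field E] [Algebra F E] (S : Vec ≃ₗ[F] E × E)
    (hS : ∀ u w, form F E (S u) (S w) = Bf u w) {φ : Module.End F (E × E)} (hi : Isom φ) (hs : Semi φ) :
    ∃ k ∈ semiGroup S, ∀ (r : F[X]) (u : Vec), S (act (Matrix.toLinAlgEquiv' k.1) r u) = aeval φ r (S u) := by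
  let Φ : Module.End F Vec := S.symm.conj φ
  have hΦ : ∀ x, LinearMap.toMatrix' Φ *ᵥ x = S.symm (φ (S x)) := fun x => by
    rw [LinearMap.toMatrix'_mulVec]; rfl
  let k : G := ⟨LinearMap.toMatrix' Φ, (mem_sp_iff _).mpr fun u w => by
    rw [hΦ, hΦ, ← hS, S.apply_symm_apply, S.apply_symm_apply, hi, hS]⟩
  have hk : ∀ x, S (k.1 *ᵥ x) = φ (S x) := fun x => by
    show S (LinearMap.toMatrix' Φ *ᵥ x) = _
    rw [hΦ, S.apply_symm_apply]
  refine ⟨k, fun e => ?_, fun r u => ?_⟩
  · obtain ⟨e', he'⟩ := hs e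
    exact ⟨e', fun x => by rw [hk, hk, S.apply_symm_apply, S.apply_symm_apply, he']⟩
  · exact (act_map (T := S.toLinearMap) (x := Matrix.toLinAlgEquiv' k.1) (y := φ)
      (fun v => by rw [Matrix.toLinAlgEquiv'_apply]; exact hk v) r u).symm

/-- `PSp₆(q)` is covered in characteristic three. -/
theorem covered [CharP F 3] : Covered (Cfsg.PSp 3 F) := by
  classical
  haveI : Fact (Nat.Prime 3) := ⟨Nat.prime_three⟩
  have h3F : (3 : F) = 0 := by exact_mod_cast CharP.cast_eq_zero F 3
  have h2 : (2 : F) ≠ 0 := fun h0 => one_ne_zero (α := F) (by linear_combination h3F - h0)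
  let E := FiniteField.Extension F 3 3
  have hE : Module.finrank F E = 3 := FiniteField.finrank_extension F 3 3
  haveI : Fintype E := Fintype.ofFinite E
  haveI : CharP E 3 := charP_of_injective_algebraMap (algebraMap F E).injective 3
  let τ := FiniteField.frobeniusAlgEquivOfAlgebraic F E
  have hsum : ∀ z, τ (τ z) + τ z + z = algebraMap F E (Algebra.trace F E z) := by
    intro z
    have hτ : ∀ x : E, τ x = x ^ Fintype.card F := fun x => rfl
    rw [FiniteField.algebraMap_trace_eq_sum_pow, hE, Finset.sum_range_succ, Finset.sum_range_succ,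
      Finset.sum_range_succ, Finset.sum_range_zero, hτ, hτ, ← pow_mul, ← sq, pow_zero, pow_one, pow_one,
      Nat.card_eq_fintype_card]
    ring
  obtain ⟨z, hz⟩ := (show Function.Surjective (Algebra.trace F E) from Algebra.trace_surjective F E) 1
  obtain ⟨S, hS⟩ := exists_transport (E := E) hE
  let e : Vec := Pi.single (.inr 0) 1
  let f : Vec := Pi.single (.inl 0) 1
  have hef : Bf e f = 1 := by
    simp [spForm_apply, e, f, Matrix.J]
  let W₀ := Submodule.span F (Set.range ![e, f])
  have hcenter : ∀ g : G, g ∈ Subgroup.center G → g ∈ planeStab W₀ ∧ g ∈ semiGroup S := by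
    intro g hg
    obtain ⟨r, hr⟩ := SympTransvection.scalar_of_central g hg
    have hsc : ∀ x : Vec, g.1 *ᵥ x = r • x := fun x => by
      rw [hr]; funext i; simp [mulVec_diagonal]
    exact ⟨fun x hx => by rw [hsc]; exact W₀.smul_mem r hx,
      fun e => ⟨e, fun x => by
        rw [hsc, hsc, LinearEquiv.map_smul, LinearEquiv.map_smul, S.apply_symm_apply, S.apply_symm_apply, smul_comm]⟩⟩
  refine covered_quotient _ (planeStab W₀) (semiGroup S) ?_ (semiGroup_ne_top hE h2 S)
    (fun g hg => (hcenter g hg).1) (fun g hg => (hcenter g hg).2) fun g => ?_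
  · intro htop
    let p : Vec := Pi.single (.inr 1) 1
    let r : Vec := Pi.single (.inl 1) 1
    obtain ⟨x, hx, -⟩ := pair_trans h2 (e := p) (f := r) (by simp [spForm_apply, p, r, Matrix.J]) hef
    have hm : x ∈ planeStab W₀ := by rw [htop]; exact Subgroup.mem_top _
    have h1 := hm e (Submodule.subset_span ⟨0, rfl⟩)
    rw [hx] at h1
    obtain ⟨c, hc⟩ := (Submodule.mem_span_range_iff_exists_fun F).mp h1
    have := congrFun hc (.inr 1)
    simp [Fin.sum_univ_two, e, f, p] at this
  set N := Nat.card G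
  have hN : 0 < N := Nat.card_pos
  have hctx : ∀ k : G, Ctx Bf (Matrix.toLinAlgEquiv' k.1) (-1) N := fun k => sp_ctx h2 k hN pow_card_eq_one'
  have hB : ∀ u : Vec, (∀ w, Bf w u = 0) → u = 0 := spForm_nd
  have hdimV : Module.finrank F Vec = 6 := by rw [Module.finrank_pi, Fintype.card_sum, Fintype.card_fin]
  set T := Matrix.toLinAlgEquiv' g.1
  have hg := hctx g
  obtain ⟨tag, W, hW, -, hWne, -⟩ := exists_piece hg (U := ⊤) (fun u _ => trivial)
    (fun u _ hu => hB u fun w => hu w trivial) top_ne_bot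
  have hWnd := hW.nd hg
  have hWinv := hW.inv
  have hWle : Module.finrank F W ≤ 6 := hdimV ▸ Submodule.finrank_le W
  have hWpos : Module.finrank F W ≠ 0 := fun h0 => hWne (Submodule.finrank_eq_zero.mp h0)
  obtain ⟨j, hj⟩ := even_finrank hg hWnd
  rcases (show Module.finrank F W = 2 ∨ Module.finrank F W = 4 ∨ Module.finrank F W = 6 by omega) with hd | hd | hd
  · obtain ⟨x, hx⟩ := into_planeStab h2 hef g hd hWnd hWinv
    exact ⟨x, Or.inl hx⟩
  · obtain ⟨W', hd', hnd', hinv'⟩ := perp_piece g hg hWnd hWinv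
    obtain ⟨x, hx⟩ := into_planeStab h2 hef g (by omega) hnd' hinv'
    exact ⟨x, Or.inl hx⟩
  have hWtop : W = ⊤ := Submodule.eq_top_of_finrank_eq (by rw [hd, hdimV])
  have hSne : ∀ {u : E × E}, u ≠ 0 → S.symm u ≠ 0 := fun hu h0 => hu (S.symm.injective (by rw [h0, map_zero]))
  rcases hW with ⟨p, ex, v, hv, -, rfl⟩ | ⟨p, ex, v, w, hv, -, rfl⟩
  · -- cyclic pieces
    have hed : ex * p.natDegree = 6 := by rw [← hv.finrank, hd]
    have finishC : ∀ φ : Module.End F (E × E), Isom φ → Semi φ → ∀ u : E × E, aeval φ (p ^ ex) u = 0 →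
        aeval φ (p ^ (ex - 1)) u ≠ 0 →
        (IsPM p → form F E u (aeval φ (p ^ (ex - 1)) u) = gram Bf T v v (p ^ (ex - 1))) →
        ∃ x : G, x * g * x⁻¹ ∈ semiGroup S := by
      intro φ hi hs u hk hq hsq
      obtain ⟨k, hkK, hact⟩ := exists_semi_elt S hS hi hs
      have hv' : IsC Bf (Matrix.toLinAlgEquiv' k.1) p ex (S.symm u) := by
        refine isC_of_cyclic (hctx k) hB hv.mon hv.irr hv.he hv.p0 hv.self (S.injective ?_) (fun h0 => hq ?_) ?_
        · rw [hact, S.apply_symm_apply, hk, map_zero]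
        · rw [← S.apply_symm_apply u, ← hact, h0, map_zero]
        · rw [hed, hdimV]
      obtain ⟨T', hT'⟩ := hv.exists_iso hv' hg (hctx k) fun hpm => by
        rw [← hsq hpm]
        rw [IsometryClasses.gram_apply, ← hS, hact, S.apply_symm_apply]
      obtain ⟨x, hx⟩ := conj_of_iso g k hWtop hT'
      exact ⟨x, by rw [hx]; exact hkK⟩
    have hdpos := hv.irr.natDegree_pos
    have hsdc := fun (i : ℕ) (hi : i ≤ p.natDegree) => SUClassNumber.dualP_coeff_of_self hv.self hi
    have hc0 : p.coeff 0 * p.coeff 0 = 1 := by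
      have h1 := hsdc 0 (Nat.zero_le _)
      rw [Nat.sub_zero, hv.mon.coeff_natDegree, RingHom.id_apply, RingHom.id_apply, mul_one] at h1
      conv_lhs => arg 1; rw [h1]
      exact inv_mul_cancel₀ hv.p0
    have hd6 : p.natDegree = 1 ∨ p.natDegree = 2 ∨ p.natDegree = 3 ∨ p.natDegree = 6 := by
      have hdvd : p.natDegree ∣ 6 := ⟨ex, by rw [← hed, mul_comm]⟩
      have hle := Nat.le_of_dvd (by norm_num) hdvd
      interval_cases p.natDegree <;> omega
    rcases hd6 with h1 | h1 | h1 | h1
    · -- linear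
      have hex : ex = 6 := by rw [h1, mul_one] at hed; exact hed
      subst hex
      obtain ⟨a, rfl⟩ : ∃ a, p = X - C a := ⟨-p.coeff 0, by
        rw [map_neg, sub_neg_eq_add]; exact hv.mon.eq_X_add_C h1⟩
      rw [coeff_sub, coeff_X_zero, coeff_C_zero, zero_sub, neg_mul_neg] at hc0
      have hpm : IsPM (X - C a : F[X]) := by
        rcases mul_self_eq_one_iff.mp hc0 with h | h
        · exact Or.inl (by rw [h])
        · exact Or.inr (by rw [h])
      obtain ⟨φ, hi, hs, u, hk, hq, hval⟩ := model_regular (F := F) τ hsum hc0 (hv.gram_q hpm) hz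
      obtain ⟨x, hx⟩ := finishC φ hi hs u hk hq (fun _ => hval)
      exact ⟨x, Or.inr hx⟩
    · -- self-dual quadratic
      have hex : ex = 3 := by rw [h1] at hed; omega
      subst hex
      have hexp : p = X ^ 2 + C (p.coeff 1) * X + C (p.coeff 0) := by
        conv_lhs => rw [hv.mon.as_sum, h1]
        simp [Finset.sum_range_succ]
        ring
      have hnroot : ∀ r : F, ¬ p.IsRoot r := fun r hr => by
        have := degree_eq_one_of_irreducible_of_root hv.irr hr
        rw [degree_eq_natDegree hv.mon.ne_zero, h1] at this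
        exact absurd this (by decide)
      have hc1 : p.coeff 0 = 1 := by
        rcases mul_self_eq_one_iff.mp hc0 with h | h
        · exact h
        exfalso
        have h5 := hsdc 1 (show 1 ≤ p.natDegree by omega)
        rw [h1, show 2 - 1 = 1 from rfl, RingHom.id_apply, RingHom.id_apply, h] at h5
        have h6 : (2 : F) * p.coeff 1 = 0 := by
          rw [inv_neg_one] at h5
          linear_combination h5
        refine hnroot 1 ?_
        rw [IsRoot.def, hexp]
        simp [(mul_eq_zero.mp h6).resolve_left h2, h]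
      obtain ⟨t, ht⟩ : ∃ t, p = X ^ 2 - C t * X + 1 := ⟨-p.coeff 1, by
        rw [map_neg, neg_mul, sub_neg_eq_add]
        conv_lhs => rw [hexp, hc1, map_one]⟩
      have htt : t * t ≠ 1 := by
        intro h
        refine hnroot (-t) ?_
        rw [IsRoot.def, ht]
        simp
        linear_combination 2 * h + h3F
      obtain ⟨φ, hi, hs, u, hk, hq⟩ := model_quad (F := F) τ hsum htt hz
      obtain ⟨x, hx⟩ := finishC φ hi hs u (by rw [ht]; exact hk) (by rw [ht]; exact hq) (fun hpm => by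
        obtain ⟨a, -, rfl⟩ := hpm.exists_eq
        rw [natDegree_X_sub_C] at h1
        omega)
      exact ⟨x, Or.inr hx⟩
    · -- a self-dual cubic has a root
      exfalso
      have hexp : p = X ^ 3 + C (p.coeff 2) * X ^ 2 + C (p.coeff 1) * X + C (p.coeff 0) := by
        conv_lhs => rw [hv.mon.as_sum, h1]
        simp [Finset.sum_range_succ]
        ring
      have h5 := hsdc 1 (show 1 ≤ p.natDegree by omega)
      rw [h1, show 3 - 1 = 2 from rfl, RingHom.id_apply, RingHom.id_apply] at h5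
      have h5' : p.coeff 0 * p.coeff 1 = p.coeff 2 := by
        rw [h5, ← mul_assoc, mul_inv_cancel₀ hv.p0, one_mul]
      have hr : p.IsRoot (-p.coeff 0) := by
        rw [IsRoot.def, hexp]
        simp only [eval_add, eval_mul, eval_pow, eval_X, eval_C]
        simp [coeff_X_pow]
        linear_combination (-p.coeff 0 + p.coeff 2) * hc0 - h5'
      have := degree_eq_one_of_irreducible_of_root hv.irr hr
      rw [degree_eq_natDegree hv.mon.ne_zero, h1] at this
      exact absurd this (by decide)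
    · -- degree six
      have hex : ex = 1 := by rw [h1] at hed; omega
      subst hex
      obtain ⟨φ, hi, hs, u, hk, hu⟩ := model_six (F := F) (E := E) hE hv.mon hv.irr hv.p0 hv.self h1
      obtain ⟨x, hx⟩ := finishC φ hi hs u (by rw [pow_one]; exact hk) (by simpa using hu) (fun hpm => by
        obtain ⟨a, -, rfl⟩ := hpm.exists_eq
        rw [natDegree_X_sub_C] at h1
        omega)
      exact ⟨x, Or.inr hx⟩
  · -- hyperbolic pieces
    have hed : ex * p.natDegree = 3 := by
      have h1 := hv.finrank hg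
      rw [hd, natDegree_mul hv.mon.ne_zero (hv.swap hg).mon.ne_zero,
        (du_props ⟨hv.mon, hv.irr⟩ hv.p0).2.2.2] at h1
      linarith
    have finishH : ∀ (φ : Module.End F (E × E)) (a b : E), HData φ p ex a b →
        ∃ x : G, x * g * x⁻¹ ∈ semiGroup S := by
      rintro φ a b ⟨hi, hs, hP, hQ, hk, hq, hk', hq'⟩
      obtain ⟨k, hkK, hact⟩ := exists_semi_elt S hS hi hs
      let P : Submodule F Vec := (LinearMap.ker (LinearMap.snd F E E)).comap S.toLinearMap
      let Q : Submodule F Vec := (LinearMap.ker (LinearMap.fst F E E)).comap S.toLinearMap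
      have hk1 : ∀ x, S (Matrix.toLinAlgEquiv' k.1 x) = φ (S x) := fun x => by
        have := hact X x
        rwa [act_X, aeval_X] at this
      have hmemP : ∀ x, x ∈ P ↔ (S x).2 = 0 := fun x => Iff.rfl
      have hmemQ : ∀ x, x ∈ Q ↔ (S x).1 = 0 := fun x => Iff.rfl
      have hPQ : P ⊓ Q = ⊥ := (Submodule.eq_bot_iff _).mpr fun x hx =>
        S.injective (by rw [map_zero]; exact Prod.ext ((hmemQ x).mp hx.2) ((hmemP x).mp hx.1))
      obtain ⟨hh, htop⟩ := isH_of_axes (hctx k) hB hv.mon hv.irr hv.he hv.p0 hv.shape (P := P) (Q := Q)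
        (fun x hx => by
          rw [hmemP] at hx ⊢
          rw [hk1, show S x = ((S x).1, 0) from Prod.ext rfl hx]
          exact hP _)
        (fun x hx => by
          rw [hmemQ] at hx ⊢
          rw [hk1, show S x = (0, (S x).2) from Prod.ext hx rfl]
          exact hQ _)
        hPQ (fun x hx y hy => by
          rw [← hS, form_apply, (hmemP x).mp hx, (hmemP y).mp hy, mul_zero, zero_mul, sub_zero, map_zero])
        (fun x hx y hy => by
          rw [← hS, form_apply, (hmemQ x).mp hx, (hmemQ y).mp hy, mul_zero, zero_mul, sub_zero, map_zero])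
        (v := S.symm (a, 0)) (w := S.symm (0, b)) (by rw [hmemP, S.apply_symm_apply])
        (by rw [hmemQ, S.apply_symm_apply])
        (S.injective (by rw [hact, S.apply_symm_apply, hk, map_zero]))
        (fun h0 => hq (by rw [← S.apply_symm_apply ((a, 0) : E × E), ← hact, h0, map_zero]))
        (S.injective (by rw [hact, S.apply_symm_apply, hk', map_zero]))
        (fun h0 => hq' (by rw [← S.apply_symm_apply ((0, b) : E × E), ← hact, h0, map_zero]))
        (by rw [hed, hdimV])
      obtain ⟨T', hT'⟩ := hv.exists_iso hh hg (hctx k)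
      obtain ⟨x, hx⟩ := conj_of_iso g k hWtop hT'
      exact ⟨x, by rw [hx]; exact hkK⟩
    have hdpos := hv.irr.natDegree_pos
    rcases (Nat.dvd_prime Nat.prime_three).mp ⟨ex, by rw [← hed, mul_comm]⟩ with h1 | h1
    · have hex : ex = 3 := by rw [h1, mul_one] at hed; exact hed
      subst hex
      have hp : p = X - C (-p.coeff 0) := by rw [map_neg, sub_neg_eq_add]; exact hv.mon.eq_X_add_C h1
      obtain ⟨φ, hφ⟩ := model_linear (F := F) τ hsum (neg_ne_zero.mpr hv.p0) hz
      obtain ⟨x, hx⟩ := finishH φ z z (by rw [hp]; exact hφ)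
      exact ⟨x, Or.inr hx⟩
    · have hex : ex = 1 := by rw [h1] at hed; omega
      subst hex
      obtain ⟨φ, hφ⟩ := model_cubic (F := F) (E := E) hE hv.irr hv.p0 h1
      obtain ⟨x, hx⟩ := finishH φ 1 1 hφ
      exact ⟨x, Or.inr hx⟩

end CfsgLib.NormalCover.Sp6
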