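import Cfsg.Prelude.Def_Classical
import Cfsg.Agent.Lib.NormalCover.Basic
import Cfsg.Agent.Lib.SympTransvection

/-!
In characteristic `2` the symplectic group is covered by the conjugates of two orthogonal groups.
-/

set_option autoImplicit false

namespace CfsgLib.NormalCover.SympEven

open Matrix
open CfsgLib.SympTransvection (tv mulVec_eq dot_J_self)

variable {F : Type*} [Field F] {m : ℕ}

local notation "Vec" => (Fin m ⊕ Fin m → F)
local notation "Jm" => Matrix.J (Fin m) F

/-- The symplectic form. -/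
def form (u v : Vec) : F := u ⬝ᵥ (Jm *ᵥ v)

theorem form_add_left (u u' v : Vec) : form (u + u') v = form u v + form u' v := add_dotProduct _ _ _

theorem form_add_right (u v v' : Vec) : form u (v + v') = form u v + form u v' := by
  simp only [form, mulVec_add, dotProduct_add]

theorem form_smul_right (u v : Vec) (a : F) : form u (a • v) = a * form u v := by
  simp only [form, mulVec_smul, dotProduct_smul, smul_eq_mul]

theorem form_self (u : Vec) : form u u = 0 := dot_J_self u

theorem form_preserved (g : Matrix.symplecticGroup (Fin m) F) (u v : Vec) :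
    form (g.1 *ᵥ u) (g.1 *ᵥ v) = form u v := by
  have h : g.1ᵀ * Jm * g.1 = Jm := by
    have := SymplecticGroup.transpose_mem g.2
    rw [SymplecticGroup.mem_iff, transpose_transpose] at this
    exact this
  simp only [form]
  rw [mulVec_mulVec, dotProduct_mulVec, ← vecMul_transpose, vecMul_vecMul, ← Matrix.mul_assoc, h,
    dotProduct_mulVec]

theorem form_eq (u v : Vec) :
    form u v = ∑ i, (u (.inr i) * v (.inl i) - u (.inl i) * v (.inr i)) := by
  simp [form, Matrix.J, dotProduct, Fintype.sum_sum_type, Matrix.fromBlocks_mulVec, Matrix.neg_mulVec,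
    Finset.sum_sub_distrib]
  ring

/-- `Q₀(x) + f(b,x)²`. -/
def qf (b x : Vec) : F := (∑ i, x (.inl i) * x (.inr i)) + form b x ^ 2

variable [CharP F 2]

theorem qf_add (b x y : Vec) : qf b (x + y) = qf b x + qf b y + form x y := by
  have h : (∑ i, (x + y) (.inl i) * (x + y) (.inr i)) =
      (∑ i, x (.inl i) * x (.inr i)) + (∑ i, y (.inl i) * y (.inr i)) + form x y := by
    rw [form_eq, ← Finset.sum_add_distrib, ← Finset.sum_add_distrib]
    refine Finset.sum_congr rfl fun i _ => ?_
    rw [CharTwo.sub_eq_add]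
    simp only [Pi.add_apply]
    ring
  rw [qf, h, form_add_right, CharTwo.add_sq, qf, qf]
  ring

theorem qf_smul (b x : Vec) (a : F) : qf b (a • x) = a ^ 2 * qf b x := by
  simp only [qf, form_smul_right, mul_add, Finset.mul_sum, mul_pow, Pi.smul_apply, smul_eq_mul]
  congr 1
  exact Finset.sum_congr rfl fun i _ => by ring

/-- The orthogonal group of `qf b`. -/
def orth (b : Vec) : Subgroup (Matrix.symplecticGroup (Fin m) F) where
  carrier := {g | ∀ x, qf b (g.1 *ᵥ x) = qf b x}
  mul_mem' {g h} hg hh x := by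
    show qf b ((g.1 * h.1) *ᵥ x) = qf b x
    rw [← mulVec_mulVec, hg, hh]
  one_mem' x := by
    show qf b ((1 : Matrix (Fin m ⊕ Fin m) (Fin m ⊕ Fin m) F) *ᵥ x) = qf b x
    rw [one_mulVec]
  inv_mem' {g} hg x := by
    have h1 := hg ((g⁻¹).1 *ᵥ x)
    rw [mulVec_mulVec, ← Submonoid.coe_mul, mul_inv_cancel] at h1
    rw [← h1, OneMemClass.coe_one, one_mulVec]

/-- Every symplectic transformation fixes one of the forms `qf b`. -/
theorem exists_orth [Finite F] (g : Matrix.symplecticGroup (Fin m) F) : ∃ b : Vec, g ∈ orth b := by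
  let σ : F ≃+* F := RingEquiv.ofBijective (frobenius F 2) (Finite.injective_iff_bijective.mp (frobenius_inj F 2))
  have hσ : ∀ a : F, σ a = a ^ 2 := fun a => rfl
  let δ : Vec → F := fun x => qf 0 (g.1 *ᵥ x) + qf 0 x
  have hδa : ∀ x y, δ (x + y) = δ x + δ y := fun x y => by
    simp only [δ, mulVec_add, qf_add, form_preserved]
    linear_combination CharTwo.add_self_eq_zero (form x y)
  let L : Vec →ₗ[F] F :=
    { toFun := fun x => σ.symm (δ x)
      map_add' := fun x y => by rw [hδa, map_add]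
      map_smul' := fun a x => by
        apply σ.injective
        rw [RingHom.id_apply, smul_eq_mul, map_mul, RingEquiv.apply_symm_apply, RingEquiv.apply_symm_apply, hσ]
        simp only [δ, mulVec_smul, qf_smul]
        ring }
  let T : Module.End F Vec := Matrix.toLin' g.1 + LinearMap.id
  have hT : ∀ x, T x = g.1 *ᵥ x + x := fun x => rfl
  have hker : L ∈ (LinearMap.ker T).dualAnnihilator := by
    rw [Submodule.mem_dualAnnihilator]
    intro x hx
    rw [LinearMap.mem_ker, hT] at hx
    have hgx : g.1 *ᵥ x = x := by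
      funext i
      exact CharTwo.add_eq_zero.mp (congrFun hx i)
    show σ.symm (δ x) = 0
    rw [show δ x = qf 0 (g.1 *ᵥ x) + qf 0 x from rfl, hgx, CharTwo.add_self_eq_zero, map_zero]
  rw [← LinearMap.range_dualMap_eq_dualAnnihilator_ker] at hker
  obtain ⟨φ, hφ⟩ := hker
  let w : Vec := (dotProductEquiv F (Fin m ⊕ Fin m)).symm φ
  refine ⟨w ᵥ* (-Jm), fun x => ?_⟩
  have hb : ∀ y, form (w ᵥ* (-Jm)) y = φ y := fun y => by
    rw [form, dotProduct_mulVec, vecMul_vecMul, Matrix.neg_mul, J_squared, neg_neg, vecMul_one]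
    exact LinearMap.congr_fun ((dotProductEquiv F _).apply_symm_apply φ) y
  have h1 : σ.symm (δ x) = φ (g.1 *ᵥ x) + φ x := by
    rw [← map_add, ← hT, ← LinearMap.dualMap_apply, hφ]
    rfl
  have h2 := congrArg σ h1
  rw [RingEquiv.apply_symm_apply, hσ, CharTwo.add_sq] at h2
  have h3 : ∀ y, qf (w ᵥ* (-Jm)) y = qf 0 y + φ y ^ 2 := fun y => by
    rw [qf, hb, qf, show form (0 : Vec) y = 0 from zero_dotProduct _]
    ring
  rw [h3, h3]
  have h4 : qf 0 (g.1 *ᵥ x) = δ x + qf 0 x := by
    simp only [δ]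
    linear_combination -CharTwo.add_self_eq_zero (qf 0 x)
  rw [h4, h2]
  linear_combination CharTwo.add_self_eq_zero (φ (g.1 *ᵥ x) ^ 2)

/-- A transvection carrying `qf b'` to `qf b`. -/
theorem exists_move {b b' : Vec}
    (h : ∃ y : F, y ^ 2 + y = qf 0 b + qf 0 b') :
    ∃ t : Matrix.symplecticGroup (Fin m) F, ∀ x, qf b (t.1 *ᵥ x) = qf b' x := by
  obtain ⟨y, hy⟩ := h
  let v := b + b'
  let a := qf b v
  have ha : a = (y + form b b') ^ 2 + (y + form b b') := by
    have h1 : ∀ u, qf b u = qf 0 u + form b u ^ 2 := fun u => by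
      simp only [qf, show form (0 : Vec) u = 0 from zero_dotProduct _]
      ring
    show qf b (b + b') = _
    rw [h1, qf_add, form_add_right, form_self, CharTwo.add_sq, ← hy]
    linear_combination (-(y * form b b')) * (CharTwo.two_eq_zero : (2 : F) = 0)
  obtain ⟨c, hc⟩ : ∃ c : F, c ^ 2 * a + c = 1 := by
    by_cases h0 : a = 0
    · exact ⟨1, by rw [h0]; ring⟩
    · refine ⟨(y + form b b') / a, ?_⟩
      field_simp
      linear_combination -ha
  refine ⟨tv v c, fun x => ?_⟩
  show qf b (Cfsg.sympTransvection m v c *ᵥ x) = qf b' x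
  rw [mulVec_eq, qf_add, qf_smul, form_smul_right]
  have h2 : qf b' x = qf b x + form x v ^ 2 := by
    have hs : form x v = form v x := by
      rw [form, form, SympTransvection.swap, CharTwo.neg_eq]
    have hbv : b' = b + v := by
      funext i
      simp only [v, Pi.add_apply]
      linear_combination -CharTwo.add_self_eq_zero (b i)
    rw [qf, qf, hs, hbv, form_add_left, CharTwo.add_sq, add_assoc]
  rw [h2]
  show qf b x + (c * form x v) ^ 2 * a + c * form x v * form x v = _
  linear_combination (form x v ^ 2) * hc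

theorem orth_ne_top (hm : 2 ≤ m) (b : Vec) : orth b ≠ ⊤ := by
  intro htop
  let p : Fin m ⊕ Fin m := .inl ⟨0, by omega⟩
  let r : Fin m ⊕ Fin m := .inl ⟨1, by omega⟩
  obtain ⟨v, hv, hv1⟩ : ∃ v : Vec, v ≠ 0 ∧ qf b v ≠ 1 := by
    by_contra h
    push Not at h
    have hp : (Pi.single p 1 : Vec) ≠ 0 := by simp
    have hr : (Pi.single r 1 : Vec) ≠ 0 := by simp
    have hpr : (Pi.single p 1 + Pi.single r 1 : Vec) ≠ 0 := fun h0 => by
      have := congrFun h0 p
      simp [p, r] at this
    have h1 := h _ hpr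
    rw [qf_add, h _ hp, h _ hr, CharTwo.add_self_eq_zero, zero_add] at h1
    simp [form_eq, p, r] at h1
  obtain ⟨x, hx⟩ := SympTransvection.exists_dot_ne hv
  have h : tv v 1 ∈ orth b := by rw [htop]; exact Subgroup.mem_top _
  have h1 := h x
  change qf b (Cfsg.sympTransvection m v 1 *ᵥ x) = qf b x at h1
  rw [mulVec_eq, qf_add, qf_smul, form_smul_right, one_mul, add_assoc, add_eq_left] at h1
  have h2 : form x v ^ 2 * (qf b v + 1) = 0 := by
    have e : form x v = x ⬝ᵥ (Jm *ᵥ v) := rfl
    rw [← h1, e]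
    ring
  rcases mul_eq_zero.mp h2 with h3 | h3
  · exact hx (pow_eq_zero_iff two_ne_zero |>.mp h3)
  · exact hv1 (CharTwo.add_eq_zero.mp h3)

theorem covered [Finite F] (hm : 2 ≤ m) : Covered (Cfsg.PSp m F) := by
  let φ : F →+ F := AddMonoidHom.mk' (fun y => y ^ 2 + y) fun a b => by rw [CharTwo.add_sq]; ring
  have hker : Nat.card φ.ker = 2 := by
    have h : (φ.ker : Set F) = {0, 1} := by
      ext y
      show y ^ 2 + y = 0 ↔ y = 0 ∨ y = 1
      rw [show y ^ 2 + y = y * (y + 1) by ring, mul_eq_zero, CharTwo.add_eq_zero]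
    rw [← SetLike.coe_sort_coe, h, Nat.card_coe_set_eq, Set.ncard_pair zero_ne_one]
  have hidx : φ.range.index = 2 := by
    have h1 := φ.range.index_mul_card
    have h2 := φ.ker.card_mul_index
    rw [AddSubgroup.index_ker, hker] at h2
    have hpos : 0 < Nat.card φ.range := Nat.card_pos
    exact Nat.eq_of_mul_eq_mul_right hpos (h1.trans h2.symm)
  obtain ⟨c, hc⟩ : ∃ c, c ∉ φ.range := by
    by_contra h
    push Not at h
    rw [(AddSubgroup.eq_top_iff' _).mpr h, AddSubgroup.index_top] at hidx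
    omega
  let b₁ : Vec := Pi.single (.inl ⟨0, by omega⟩) c + Pi.single (.inr ⟨0, by omega⟩) 1
  have hb₁ : qf 0 b₁ = c := by
    simp [qf, b₁, form]
    rw [Finset.sum_eq_single (⟨0, by omega⟩ : Fin m)] <;> simp +contextual [Pi.single_apply]
  have hcen : ∀ b : Vec, Subgroup.center (Matrix.symplecticGroup (Fin m) F) ≤ orth b := by
    intro b g hg x
    obtain ⟨r, hr⟩ := SympTransvection.scalar_of_central g hg
    have h2 : r ^ 2 = 1 := (SympTransvection.scalar_mem_iff (by omega) r).mp (hr ▸ g.2)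
    have h3 : g.1 *ᵥ x = r • x := by
      rw [hr]
      funext i
      simp [mulVec_diagonal]
    rw [h3, qf_smul, h2, one_mul]
  refine covered_quotient _ (orth 0) (orth b₁) (orth_ne_top hm 0) (orth_ne_top hm b₁) (hcen 0) (hcen b₁) fun g => ?_
  obtain ⟨b, hb⟩ := exists_orth g
  have key : ∀ b' : Vec, (∃ y : F, y ^ 2 + y = qf 0 b + qf 0 b') → ∃ x, x * g * x⁻¹ ∈ orth b' := by
    intro b' h
    obtain ⟨t, ht⟩ := exists_move h
    refine ⟨t⁻¹, fun x => ?_⟩
    rw [← ht, ← ht, inv_inv, mulVec_mulVec, ← Submonoid.coe_mul, ← mul_assoc, ← mul_assoc, mul_inv_cancel,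
      one_mul, Submonoid.coe_mul, ← mulVec_mulVec, hb]
  by_cases h0 : qf 0 b ∈ φ.range
  · obtain ⟨y, hy⟩ := h0
    obtain ⟨x, hx⟩ := key 0 ⟨y, by rw [show qf (0 : Vec) 0 = 0 by simp [qf, form], add_zero]; exact hy⟩
    exact ⟨x, Or.inl hx⟩
  · obtain ⟨y, hy⟩ : qf 0 b + c ∈ φ.range := (AddSubgroup.add_mem_iff_of_index_two hidx).mpr (by simp [h0, hc])
    obtain ⟨x, hx⟩ := key b₁ ⟨y, by rw [hb₁]; exact hy⟩
    exact ⟨x, Or.inr hx⟩

end CfsgLib.NormalCover.SympEven
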