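import Cfsg.Agent.Lib.NormalCover.Unitary
import Cfsg.Agent.Lib.NormalCover.Linear
import Cfsg.Agent.Lib.Aschbacher.UnitaryPair
import Cfsg.Agent.Lib.UnitaryConj.Norm

/-!
In characteristic `3` the group `PSU₃(q)` is covered by the conjugates of a stabiliser of an anisotropic point and
of the semilinear group of the cubic extension.
-/

set_option autoImplicit false
set_option linter.unusedSectionVars false

namespace CfsgLib.NormalCover.U3

open Matrix CfsgLib.UnitaryTransvection Polynomial
open CfsgLib.UnitarySimple (mat mat_mul mat_one su_h mat_inv_mulVec mat_inv_mulVec')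
open CfsgLib.NormalCover.Unitary

universe u

variable {F : Type u} [Field F] [Fintype F] {q : ℕ} (hF : Fintype.card F = q ^ 2)

local notation "σ" => frob hF
local notation "h" => Cfsg.hermForm 3 F q

theorem indep_of_nilpotent {K U : Type*} [Field K] [AddCommGroup U] [Module K U] (R : Module.End K U) (u : U)
    (h1 : R (R u) ≠ 0) (h2 : R (R (R u)) = 0) : LinearIndependent K ![u, R u, R (R u)] := by
  rw [Fintype.linearIndependent_iff]
  intro c hc
  simp [Fin.sum_univ_three] at hc
  have e1 := congrArg R hc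
  simp [h2] at e1
  have e2 := congrArg R e1
  simp [h2, h1] at e2
  simp [e2] at e1 hc
  rcases e1 with e1 | e1
  · simp [e1, h1] at hc
    intro i; fin_cases i <;> assumption
  · exact absurd e1 h1

/-- A nilpotent endomorphism of index three on a space of dimension three. -/
theorem similar_of_nilpotent {K V W : Type*} [Field K] [AddCommGroup V] [Module K V] [FiniteDimensional K V]
    [AddCommGroup W] [Module K W] [FiniteDimensional K W] (hV : Module.finrank K V = 3)
    (hW : Module.finrank K W = 3) (S : Module.End K V) (T : Module.End K W) {v : V} {w : W}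
    (hv : S (S v) ≠ 0) (hv' : S (S (S v)) = 0) (hw : T (T w) ≠ 0) (hw' : T (T (T w)) = 0) :
    ∃ e : V ≃ₗ[K] W, ∀ x, e (S x) = T (e x) := by
  let bV := basisOfLinearIndependentOfCardEqFinrank (indep_of_nilpotent S v hv hv') (by rw [Fintype.card_fin, hV])
  let bW := basisOfLinearIndependentOfCardEqFinrank (indep_of_nilpotent T w hw hw') (by rw [Fintype.card_fin, hW])
  let e := bV.equiv bW (Equiv.refl _)
  have h0 : e v = w := by
    have := bV.equiv_apply 0 bW (Equiv.refl _)
    simpa [bV, bW, e] using this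
  have h1 : e (S v) = T w := by
    have := bV.equiv_apply 1 bW (Equiv.refl _)
    simpa [bV, bW, e] using this
  have h2 : e (S (S v)) = T (T w) := by
    have := bV.equiv_apply 2 bW (Equiv.refl _)
    simpa [bV, bW, e] using this
  refine ⟨e, fun x => LinearMap.congr_fun (?_ : e.toLinearMap ∘ₗ S = T ∘ₗ e.toLinearMap) x⟩
  refine bV.ext fun i => ?_
  fin_cases i <;> simp [bV, h0, h1, h2, hv', hw']

include hF

theorem char_three (hq3 : ∃ a, 1 ≤ a ∧ q = 3 ^ a) : CharP F 3 := by
  obtain ⟨a, ha, hqa⟩ := hq3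
  obtain ⟨p, hp⟩ := CharP.exists F
  obtain ⟨d, hpp, hcard⟩ := FiniteField.card F p
  have : 3 ∣ p ^ (d : ℕ) := by
    rw [← hcard, hF, hqa, ← pow_mul]; exact dvd_pow_self 3 (by omega)
  have h3 : p = 3 := ((Nat.prime_dvd_prime_iff_eq Nat.prime_three hpp).mp (Nat.prime_three.dvd_of_dvd_pow this)).symm
  exact h3 ▸ hp

theorem scale_su (hq3 : ∃ a, 1 ≤ a ∧ q = 3 ^ a) (x : Cfsg.GU 3 F q) :
    ∃ (s : Cfsg.SU 3 F q) (c : F), c ≠ 0 ∧ mat s = c • x.1.1 := by
  haveI : CharP F 3 := char_three hF hq3
  haveI : Fact (Nat.Prime 3) := ⟨Nat.prime_three⟩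
  set d := x.1.1.det
  have hd : d * σ d = 1 := det_norm hF x
  obtain ⟨c, hc⟩ := (Finite.injective_iff_bijective.mp (frobenius_inj F 3)).2 (σ d)
  rw [frobenius_def] at hc
  have hσ3 : σ (c ^ 3) = d := by rw [hc, frob_frob]
  have hcc : c * σ c = 1 := by
    have h3 : (c * σ c) ^ 3 = 1 ^ 3 := by
      rw [mul_pow, ← map_pow, hσ3, hc, one_pow, mul_comm]; exact hd
    exact frobenius_inj F 3 h3
  refine ⟨UnitarySimple.mkSU (c • x.1.1) (fun u v => ?_) ?_, c, left_ne_zero_of_mul_eq_one hcc, rfl⟩
  · rw [smul_mulVec, smul_mulVec, h_smul_left, h_smul_right hF, gu_h, ← mul_assoc, hcc, one_mul]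
  · rw [det_smul, Fintype.card_fin, hc, mul_comm]
    exact hd

/-- Elements of `SU₃` similar in `GL₃` are conjugate in `SU₃`. -/
theorem conj_of_similar (hq3 : ∃ a, 1 ≤ a ∧ q = 3 ^ a) (g k : Cfsg.SU 3 F q) (e : (Fin 3 → F) ≃ₗ[F] (Fin 3 → F))
    (he : ∀ x, e (mat g *ᵥ x) = mat k *ᵥ e x) : ∃ x : Cfsg.SU 3 F q, x * g * x⁻¹ = k := by
  let A := mkGU hF (mat g) (su_h g)
  let B := mkGU hF (mat k) (su_h k)
  have hconj : IsConj (A : GL (Fin 3) F) (B : GL (Fin 3) F) := by
    let P : GL (Fin 3) F := Matrix.GeneralLinearGroup.mkOfDetNeZero (LinearMap.toMatrix' e.toLinearMap)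
      (by rw [LinearMap.det_toMatrix']; exact (LinearEquiv.isUnit_det' e).ne_zero)
    refine isConj_iff.mpr ⟨P, ?_⟩
    rw [mul_inv_eq_iff_eq_mul]
    refine Units.ext (Matrix.ext_of_mulVec_single fun i => ?_)
    show (LinearMap.toMatrix' e.toLinearMap * mat g) *ᵥ _ = (mat k * LinearMap.toMatrix' e.toLinearMap) *ᵥ _
    rw [← mulVec_mulVec, ← mulVec_mulVec, LinearMap.toMatrix'_mulVec, LinearMap.toMatrix'_mulVec]
    exact he _
  obtain ⟨X, hX⟩ := isConj_iff.mp (UnitaryConj.isConj_GU hF A B hconj)
  obtain ⟨s, c, hc, hs⟩ := scale_su hF hq3 X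
  refine ⟨s, mul_inv_eq_iff_eq_mul.mpr (UnitarySimple.su_ext fun x => ?_)⟩
  have h1 : X.1.1 * mat g = mat k * X.1.1 :=
    congrArg (fun z : Cfsg.GU 3 F q => z.1.1) (mul_inv_eq_iff_eq_mul.mp hX)
  rw [mat_mul, mat_mul, hs, Matrix.smul_mul, Matrix.mul_smul, h1]

theorem center_bot (hq3 : ∃ a, 1 ≤ a ∧ q = 3 ^ a) (H : Subgroup (Cfsg.SU 3 F q)) :
    Subgroup.center (Cfsg.SU 3 F q) ≤ H := by
  intro g hg
  obtain ⟨c, hc⟩ := SUCover.center_scalar hF le_rfl hg
  haveI : CharP F 3 := char_three hF hq3
  haveI : Fact (Nat.Prime 3) := ⟨Nat.prime_three⟩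
  have h1 : (mat g).det = 1 := (g : Matrix.SpecialLinearGroup (Fin 3) F).2
  rw [hc, Matrix.scalar_apply, det_diagonal, Fin.prod_const] at h1
  have hc1 : c = 1 := frobenius_inj F 3 (by simpa [frobenius_def] using h1)
  have : g = 1 := UnitarySimple.su_ext fun x => by rw [hc, hc1, map_one, mat_one]
  rw [this]
  exact H.one_mem

/-- The three kinds of elements. -/
theorem cases3 (hq3 : ∃ a, 1 ≤ a ∧ q = 3 ^ a) (g : Cfsg.SU 3 F q) :
    (∃ (v : Fin 3 → F) (r : F), h v v ≠ 0 ∧ mat g *ᵥ v = r • v) ∨ Irreducible (mat g).charpoly ∨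
      ∃ w, (mat g - 1) *ᵥ ((mat g - 1) *ᵥ w) ≠ 0 ∧ (mat g - 1) *ᵥ ((mat g - 1) *ᵥ ((mat g - 1) *ᵥ w)) = 0 := by
  by_cases hA : ∃ (v : Fin 3 → F) (r : F), h v v ≠ 0 ∧ mat g *ᵥ v = r • v
  · exact Or.inl hA
  push Not at hA
  set M := mat g with hM
  by_cases hP : Irreducible M.charpoly
  · exact Or.inr (Or.inl hP)
  obtain ⟨a, ha⟩ : ∃ a, M.charpoly.IsRoot a := by
    by_contra hno
    push Not at hno
    refine hP ((irreducible_iff_roots_eq_zero_of_degree_le_three ?_ ?_).mpr ?_)
    · rw [M.charpoly_natDegree_eq_dim, Fintype.card_fin]; norm_num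
    · rw [M.charpoly_natDegree_eq_dim, Fintype.card_fin]
    · exact Multiset.eq_zero_of_forall_notMem fun a ha => hno a (mem_roots'.mp ha).2
  obtain ⟨v, hv0, hv⟩ := Linear.exists_eigvec ha
  have hvv : h v v = 0 := by
    by_contra h0
    exact hA v a h0 hv
  have hμ : a ≠ 0 := by
    rintro rfl
    apply hv0
    have := mat_inv_mulVec' g v
    rw [← hM, hv, zero_smul, mulVec_zero] at this
    exact this.symm
  obtain ⟨y, hvy, hyv⟩ := UnitarySimple.exists_partner hF hv0
  obtain ⟨e, he⟩ := exists_trace_one hF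
  obtain ⟨w, hw⟩ : ∃ w, w = y + (-(h y y) * e) • v := ⟨_, rfl⟩
  have hww : h w w = 0 := by
    rw [hw, h_add_left, h_add_right hF, h_add_right hF, h_smul_left, h_smul_left, h_smul_right hF,
      h_smul_right hF, hvv, hvy, hyv, map_mul, map_neg, h_swap hF y y]
    linear_combination (-(h y y)) * he
  have hvw : h v w = 1 := by rw [hw, h_add_right hF, h_smul_right hF, hvv, hvy, mul_zero, add_zero]
  have hwv : h w v = 1 := by rw [← h_swap hF, hvw, map_one]
  let L : (Fin 3 → F) →ₗ[F] F × F :=
    { toFun := fun x => (h x v, h x w)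
      map_add' := fun a b => by simp [h_add_left]
      map_smul' := fun a b => by simp [h_smul_left] }
  obtain ⟨x, hxL, hx0⟩ := Submodule.exists_mem_ne_zero_of_ne_bot (p := LinearMap.ker L) (fun hb => by
    have h1 := LinearMap.finrank_range_add_finrank_ker L
    have h2 := Submodule.finrank_le (LinearMap.range L)
    rw [hb, finrank_bot, Module.finrank_fin_fun] at h1
    rw [Module.finrank_prod, Module.finrank_self] at h2
    omega)
  obtain ⟨hxv, hxw⟩ : h x v = 0 ∧ h x w = 0 := Prod.ext_iff.mp (LinearMap.mem_ker.mp hxL)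
  have hvx : h v x = 0 := by rw [← h_swap hF, hxv, map_zero]
  have hwx : h w x = 0 := by rw [← h_swap hF, hxw, map_zero]
  have hind : LinearIndependent F ![v, w] := LinearIndependent.pair_iff.mpr fun s t hst => by
    have h1 := congrArg (fun z => h z v) hst
    have h2 := congrArg (fun z => h z w) hst
    simp [h_add_left, h_smul_left, hvv, hww, hvw, hwv, h_zero_left hF] at h1 h2
    exact ⟨h2, h1⟩
  have hxx : h x x ≠ 0 := by
    intro h0
    have hb : LinearIndependent F ![x, v, w] := by
      rw [Fintype.linearIndependent_iff]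
      intro c hc
      simp [Fin.sum_univ_three] at hc
      have h1 := congrArg (fun z => h z v) hc
      have h2 := congrArg (fun z => h z w) hc
      simp [h_add_left, h_smul_left, hvv, hww, hvw, hwv, hxv, hxw, h_zero_left hF] at h1 h2
      simp [h1, h2, hx0] at hc
      intro i; fin_cases i <;> assumption
    let b := basisOfLinearIndependentOfCardEqFinrank hb (by simp)
    refine hx0 (h_nondeg hF fun z => ?_)
    rw [← b.sum_equivFun z]
    simp [b, Fin.sum_univ_three, h_add_right hF, h_smul_right hF, h0, hxv, hxw]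
  have hdec : ∀ z, z = h z w • v + (h z x / h x x) • x + h z v • w := by
    intro z
    refine sub_eq_zero.mp (h_nondeg hF fun u => ?_)
    set d := z - (h z w • v + (h z x / h x x) • x + h z v • w)
    have d1 : h d v = 0 := by simp [d, h_sub_left, h_add_left, h_smul_left, hvv, hxv, hwv]
    have d2 : h d w = 0 := by simp [d, h_sub_left, h_add_left, h_smul_left, hvw, hxw, hww]
    have d3 : h d x = 0 := by simp [d, h_sub_left, h_add_left, h_smul_left, hvx, hwx, hxx]
    have hb : LinearIndependent F ![x, v, w] := by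
      rw [Fintype.linearIndependent_iff]
      intro c hc
      simp [Fin.sum_univ_three] at hc
      have h1 := congrArg (fun z => h z v) hc
      have h2 := congrArg (fun z => h z w) hc
      simp [h_add_left, h_smul_left, hvv, hww, hvw, hwv, hxv, hxw, h_zero_left hF] at h1 h2
      simp [h1, h2, hx0] at hc
      intro i; fin_cases i <;> assumption
    let b := basisOfLinearIndependentOfCardEqFinrank hb (by simp)
    rw [← b.sum_equivFun u]
    simp [b, Fin.sum_univ_three, h_add_right hF, h_smul_right hF, d1, d2, d3]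
  have hiso := su_h g
  rw [← hM] at hiso
  have hσμ : σ a ≠ 0 := fun h0 => hμ (by rw [← frob_frob hF a, h0, map_zero])
  -- images
  have hMxv : h (M *ᵥ x) v = 0 := by
    have h1 := hiso x v
    rw [hv, h_smul_right hF, hxv] at h1
    exact (mul_eq_zero.mp h1).resolve_left hσμ
  obtain ⟨lam, s, hMx⟩ : ∃ lam s, M *ᵥ x = lam • x + s • v :=
    ⟨h (M *ᵥ x) x / h x x, h (M *ᵥ x) w, by
      conv_lhs => rw [hdec (M *ᵥ x), hMxv, zero_smul, add_zero]
      rw [add_comm]⟩
  obtain ⟨ν, r, t, hMw⟩ : ∃ ν r t, M *ᵥ w = ν • w + r • x + t • v :=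
    ⟨h (M *ᵥ w) v, h (M *ᵥ w) x / h x x, h (M *ᵥ w) w, by
      conv_lhs => rw [hdec (M *ᵥ w)]
      abel⟩
  have e1 : lam * σ lam = 1 := by
    have h1 := hiso x x
    simp [hMx, h_add_left, h_add_right hF, h_smul_left, h_smul_right hF, hvv, hxv, hvx] at h1
    refine mul_right_cancel₀ hxx ?_
    linear_combination h1
  have hl : lam = a := by
    by_contra hl
    refine hA (x + (s / (lam - a)) • v) lam ?_ ?_
    · simpa [h_add_left, h_add_right hF, h_smul_left, h_smul_right hF, hvv, hxv, hvx] using hxx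
    · rw [mulVec_add, mulVec_smul, hv, hMx, smul_add, smul_smul, smul_smul]
      have hr : s + s / (lam - a) * a = lam * (s / (lam - a)) := by
        field_simp [sub_ne_zero.mpr hl]
        ring
      rw [← hr]
      module
  subst hl
  have hs : s ≠ 0 := fun h0 => hA x lam hxx (by rw [hMx, h0, zero_smul, add_zero])
  have hν : ν = lam := by
    have h1 := hiso w v
    simp [hMw, hv, h_add_left, h_smul_left, h_smul_right hF, hvv, hxv, hwv] at h1
    refine mul_right_cancel₀ hσμ ?_
    rw [e1]
    linear_combination h1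
  subst hν
  have hr : r ≠ 0 := by
    intro h0
    have h1 := hiso x w
    simp [hMx, hMw, h0, h_add_left, h_add_right hF, h_smul_left, h_smul_right hF, hvv, hxv, hxw, hvw] at h1
    exact hs (h1.resolve_left hμ)
  have hlam : ν = 1 := by
    have hb : LinearIndependent F ![v, x, w] := by
      rw [Fintype.linearIndependent_iff]
      intro c hc
      simp [Fin.sum_univ_three] at hc
      have h1 := congrArg (fun z => h z v) hc
      have h2 := congrArg (fun z => h z w) hc
      simp [h_add_left, h_smul_left, hvv, hww, hvw, hwv, hxv, hxw, h_zero_left hF] at h1 h2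
      simp [h1, h2, hx0] at hc
      intro i; fin_cases i <;> assumption
    let b := basisOfLinearIndependentOfCardEqFinrank hb (by simp)
    have hd : LinearMap.det (Matrix.toLin' M) = 1 := by
      rw [LinearMap.det_toLin']
      exact (g : Matrix.SpecialLinearGroup (Fin 3) F).2
    have hmat : LinearMap.toMatrix b b (Matrix.toLin' M) = !![ν, s, t; 0, ν, r; 0, 0, ν] := by
      have r1 : b.repr (M *ᵥ v) = Finsupp.single 0 ν := by
        rw [hv, show v = b 0 by simp [b], map_smul, b.repr_self]; simp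
      have r2 : b.repr (M *ᵥ x) = Finsupp.single 1 ν + Finsupp.single 0 s := by
        rw [hMx, show v = b 0 by simp [b], show x = b 1 by simp [b], map_add, map_smul, map_smul, b.repr_self, b.repr_self]; simp
      have r3 : b.repr (M *ᵥ w) = Finsupp.single 2 ν + Finsupp.single 1 r + Finsupp.single 0 t := by
        rw [hMw, show v = b 0 by simp [b], show x = b 1 by simp [b], show w = b 2 by simp [b], map_add, map_add, map_smul, map_smul, map_smul, b.repr_self, b.repr_self, b.repr_self]; simp
      ext i j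
      rw [LinearMap.toMatrix_apply, Matrix.toLin'_apply]
      fin_cases j <;> simp only [Fin.zero_eta, Fin.mk_one, Fin.reduceFinMk, b, coe_basisOfLinearIndependentOfCardEqFinrank,
        Matrix.cons_val_zero, Matrix.cons_val_one, Matrix.cons_val_two, Matrix.tail_cons, Matrix.head_cons] <;>
        simp only [b] at r1 r2 r3 <;> simp only [r1, r2, r3] <;> fin_cases i <;> simp
    rw [← LinearMap.det_toMatrix b, hmat, det_fin_three] at hd
    simp at hd
    have h3 : ν ^ 3 = 1 ^ 3 := by linear_combination hd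
    haveI : CharP F 3 := char_three hF hq3
    haveI : Fact (Nat.Prime 3) := ⟨Nat.prime_three⟩
    exact frobenius_inj F 3 h3
  refine Or.inr (Or.inr ⟨w, ?_, ?_⟩)
  · simp only [sub_mulVec, one_mulVec, hMw, hlam, one_smul, mulVec_add, mulVec_sub, mulVec_smul, hMx, hv, mulVec_add]
    intro h0
    apply mul_ne_zero hr hs
    have h1 := congrArg (fun z => h z w) h0
    simp [h_add_left, h_sub_left, h_smul_left, hvw, hxw, hww, h_zero_left hF] at h1
    rcases h1 with h1 | h1 <;> simp [h1]
  · simp only [sub_mulVec, one_mulVec, hMw, hlam, one_smul, mulVec_add, mulVec_sub, mulVec_smul, hMx, hv]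
    module

/-- A semilinear group of the cubic extension meeting every other kind of class. -/
theorem exists_semilinear (hq3 : ∃ a, 1 ≤ a ∧ q = 3 ^ a) :
    ∃ K : Subgroup (Cfsg.SU 3 F q), K ≠ ⊤ ∧
      (∀ g : Cfsg.SU 3 F q, Irreducible (mat g).charpoly →
        ∃ k ∈ K, ∃ e : (Fin 3 → F) ≃ₗ[F] (Fin 3 → F), ∀ x, e (mat g *ᵥ x) = mat k *ᵥ e x) ∧
      ∃ k ∈ K, ∃ w, (mat k - 1) *ᵥ ((mat k - 1) *ᵥ w) ≠ 0 ∧
        (mat k - 1) *ᵥ ((mat k - 1) *ᵥ ((mat k - 1) *ᵥ w)) = 0 := by
  classical
  haveI : CharP F 3 := char_three hF hq3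
  haveI : Fact (Nat.Prime 3) := ⟨Nat.prime_three⟩
  obtain ⟨a, ha, hqa⟩ := hq3
  let E := FiniteField.Extension F 3 3
  have hE : Module.finrank F E = 3 := FiniteField.finrank_extension F 3 3
  haveI : Fintype E := Fintype.ofFinite E
  have hcard : Fintype.card E = Fintype.card F ^ 3 := by
    rw [Module.card_eq_pow_finrank (K := F), hE]
  haveI : CharP E 3 := charP_of_injective_algebraMap (algebraMap F E).injective 3
  let τ : E →+* E := iterateFrobenius E 3 (3 * a)
  have hτ : ∀ x, τ x = x ^ (q ^ 3) := fun x => by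
    rw [hqa, ← pow_mul, mul_comm a 3]; exact iterateFrobenius_def 3 (3 * a) x
  have hττ : ∀ x, τ (τ x) = x := fun x => by
    rw [hτ, hτ, ← pow_mul]
    conv_rhs => rw [← FiniteField.pow_card x, hcard, hF]
    ring_nf
  have hτalg : ∀ c : F, τ (algebraMap F E c) = algebraMap F E (σ c) := fun c => by
    rw [hτ, ← map_pow]
    congr 1
    rw [frob_apply, pow_succ, pow_mul, ← hF, FiniteField.pow_card]
  let Fr := FiniteField.frobeniusAlgEquivOfAlgebraic F E
  have hFr : ∀ x : E, Fr x = x ^ Fintype.card F := fun x => rfl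
  have hFrτ : ∀ x : E, τ (Fr x) = Fr (τ x) := fun x => by
    rw [hτ, hτ, hFr, hFr, ← pow_mul, ← pow_mul, mul_comm]
  have htr : ∀ z : E, σ (Algebra.trace F E z) = Algebra.trace F E (τ z) := fun z => by
    apply (algebraMap F E).injective
    rw [← hτalg, FiniteField.algebraMap_trace_eq_sum_pow, FiniteField.algebraMap_trace_eq_sum_pow, map_sum]
    refine Finset.sum_congr rfl fun i _ => ?_
    rw [map_pow]
  let B : E → E → F := fun x y => Algebra.trace F E (x * τ y)
  let b := Module.finBasisOfFinrankEq F E hE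
  let G : Matrix (Fin 3) (Fin 3) F := Matrix.of fun i j => B (b i) (b j)
  have hB : ∀ c d : Fin 3 → F, B (∑ i, c i • b i) (∑ j, d j • b j) = c ⬝ᵥ (G *ᵥ fun j => σ (d j)) := by
    intro c d
    simp only [B, map_sum, Finset.sum_mul, Finset.mul_sum, dotProduct, Matrix.mulVec, G, Matrix.of_apply]
    rw [Finset.sum_comm]
    refine Finset.sum_congr rfl fun i _ => ?_
    refine Finset.sum_congr rfl fun j _ => ?_
    rw [Algebra.smul_def (d j), map_mul τ, hτalg, smul_mul_assoc, map_smul, mul_left_comm (b i), ← Algebra.smul_def,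
      map_smul, smul_eq_mul, smul_eq_mul]
    ring
  have hGu : IsUnit G := by
    rw [← Matrix.mulVec_injective_iff_isUnit]
    have key : ∀ d : Fin 3 → F, G *ᵥ d = 0 → d = 0 := by
      intro d hd
      let d' : Fin 3 → F := fun j => σ (d j)
      have hd' : (fun j => σ (d' j)) = d := funext fun j => frob_frob hF _
      have h0 : ∀ x : E, Algebra.trace F E (x * τ (∑ j, d' j • b j)) = 0 := by
        intro x
        conv_lhs => rw [← b.sum_equivFun x]
        show B _ _ = 0
        rw [hB, hd', hd, dotProduct_zero]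
      have hz : τ (∑ j, d' j • b j) = 0 := by
        refine (traceForm_nondegenerate F E).2 _ fun x => ?_
        rw [Algebra.traceForm_apply]; exact h0 x
      have hz' : ∑ j, d' j • b j = 0 := τ.injective (by rw [hz, map_zero])
      have := Fintype.linearIndependent_iff.mp b.linearIndependent d' hz'
      rw [← hd']
      funext j
      simp [this j]
    intro x y hxy
    exact sub_eq_zero.mp (key _ (by rw [mulVec_sub, sub_eq_zero]; exact hxy))
  let σe : F ≃+* F := RingEquiv.ofBijective (frob hF) (Finite.injective_iff_bijective.mp (frob hF).injective)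
  obtain ⟨C, hC⟩ := Aschbacher.exists_orthonormal (show σe ≠ RingEquiv.refl F by
      intro h0
      exact frob_ne_id hF (RingHom.ext fun x => RingEquiv.congr_fun h0 x))
    (frob_frob hF) hGu (by
      ext i j
      show B (b j) (b i) = σ (B (b i) (b j))
      show Algebra.trace F E _ = σ (Algebra.trace F E _)
      rw [htr, map_mul τ, hττ, mul_comm])
  let T : (Fin 3 → F) ≃ₗ[F] E :=
    (Matrix.GeneralLinearGroup.toLin C).toLinearEquiv.trans b.equivFun.symm
  have hTB : ∀ c d, B (T c) (T d) = h c d := by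
    intro c d
    have hT : ∀ c, T c = ∑ i, (C.1 *ᵥ c) i • b i := fun c => by
      show b.equivFun.symm (C.1 *ᵥ c) = _
      rw [Module.Basis.equivFun_symm_apply]
    rw [hT, hT, hB, show (fun j => σ ((C.1 *ᵥ d) j)) = (C.1.map σ) *ᵥ (fun j => σ (d j)) from
      funext fun j => RingHom.map_mulVec σ C.1 d j, mulVec_mulVec, dotProduct_mulVec, ← vecMul_transpose,
      vecMul_vecMul, ← Matrix.mul_assoc,
      show C.1ᵀ * G * C.1.map σ = 1 from hC, vecMul_one]
    simp [Cfsg.hermForm, dotProduct, frob_apply]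
  -- transport
  have mkop : ∀ φ : Module.End F E, (∀ x y, B (φ x) (φ y) = B x y) → LinearMap.det φ = 1 →
      ∃ k : Cfsg.SU 3 F q, ∀ x, T (mat k *ᵥ x) = φ (T x) := by
    intro φ hφ hd
    let Φ : Module.End F (Fin 3 → F) := T.symm.conj φ
    have hΦ : ∀ x, LinearMap.toMatrix' Φ *ᵥ x = T.symm (φ (T x)) := fun x => by
      rw [LinearMap.toMatrix'_mulVec]; rfl
    refine ⟨UnitarySimple.mkSU (LinearMap.toMatrix' Φ) (fun u v => ?_) ?_, fun x => ?_⟩
    · rw [hΦ, hΦ, ← hTB, T.apply_symm_apply, T.apply_symm_apply, hφ, hTB]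
    · rw [LinearMap.det_toMatrix']
      show LinearMap.det (T.symm.conj φ) = 1
      rw [LinearEquiv.conj_apply, LinearMap.comp_assoc, LinearMap.det_conj, hd]
    · show T (LinearMap.toMatrix' Φ *ᵥ x) = _
      rw [hΦ, T.apply_symm_apply]
  let K : Subgroup (Cfsg.SU 3 F q) :=
    { carrier := {g | ∀ e : E, ∃ e' : E, ∀ x, T (mat g *ᵥ T.symm (e * x)) = e' * T (mat g *ᵥ T.symm x)}
      mul_mem' := by
        intro g k hg hk e
        obtain ⟨e', he'⟩ := hk e
        obtain ⟨e'', he''⟩ := hg e'
        refine ⟨e'', fun x => ?_⟩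
        have h1 := he'' (T (mat k *ᵥ T.symm x))
        rw [← he', T.symm_apply_apply, T.symm_apply_apply] at h1
        rw [mat_mul, ← mulVec_mulVec, ← mulVec_mulVec]
        exact h1
      one_mem' := fun e => ⟨e, fun x => by simp only [mat_one, one_mulVec, T.apply_symm_apply]⟩
      inv_mem' := by
        intro g hg
        obtain ⟨n, hn⟩ : ∃ n : ℕ, g⁻¹ = g ^ n :=
          ⟨orderOf g - 1, inv_eq_of_mul_eq_one_right (by
            rw [← pow_succ', Nat.sub_add_cancel (orderOf_pos g), pow_orderOf_eq_one])⟩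
        rw [hn]
        clear hn
        induction n with
        | zero => exact fun e => ⟨e, fun x => by simp only [pow_zero, mat_one, one_mulVec, T.apply_symm_apply]⟩
        | succ n ih =>
          intro e
          obtain ⟨e', he'⟩ := hg e
          obtain ⟨e'', he''⟩ := ih e'
          refine ⟨e'', fun x => ?_⟩
          have h1 := he'' (T (mat g *ᵥ T.symm x))
          rw [← he', T.symm_apply_apply, T.symm_apply_apply] at h1
          rw [pow_succ, mat_mul, ← mulVec_mulVec, ← mulVec_mulVec]
          exact h1 }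
  refine ⟨K, ?_, ?_, ?_⟩
  · -- proper
    intro htop
    obtain ⟨c₀, hc₀, hc₀'⟩ := exists_skew hF
    obtain ⟨t, ht⟩ := exists_norm_eq hF (c := -1) (by rw [map_neg, map_one])
    have hq0 : q ≠ 0 := by have := SUCover.q_gt_one hF; omega
    let v : Fin 3 → F := ![1, t, 0]
    have hv : h v v = 0 := by
      simp [v, Cfsg.hermForm, Fin.sum_univ_three, zero_pow hq0, ← frob_apply hF, ht]
    have hv0 : v ≠ 0 := fun h0 => one_ne_zero (congrFun h0 0)
    let tt := UnitarySimple.tv hF v hv c₀ hc₀'
    have htt : tt ∈ K := by rw [htop]; exact Subgroup.mem_top _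
    let x₁ : Fin 3 → F := ![0, 0, 1]
    have f1 : mat tt *ᵥ x₁ = x₁ := by
      rw [UnitarySimple.tv_mulVec]
      simp [v, x₁, Cfsg.hermForm, Fin.sum_univ_three, zero_pow hq0]
    have f2 : mat tt *ᵥ v = v := by rw [UnitarySimple.tv_mulVec, hv, mul_zero, zero_smul, add_zero]
    have hT1 : T x₁ ≠ 0 := fun h0 => one_ne_zero (congrFun (T.injective (h0.trans (map_zero T).symm)) 2)
    let e : E := T v / T x₁
    have hev : e * T x₁ = T v := div_mul_cancel₀ _ hT1
    obtain ⟨e', he'⟩ := htt e
    have hee : e' = e := by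
      have h1 := he' (T x₁)
      rw [hev, T.symm_apply_apply, T.symm_apply_apply, f1, f2, ← hev] at h1
      exact (mul_right_cancel₀ hT1 h1).symm
    have hfix : ∀ k : ℕ, T (mat tt *ᵥ T.symm (e ^ k * T x₁)) = e ^ k * T x₁ := by
      intro k
      induction k with
      | zero => rw [pow_zero, one_mul, T.symm_apply_apply, f1]
      | succ k ih => rw [pow_succ', mul_assoc, he', ih, hee]
    have hrange : e ∉ Set.range (algebraMap F E) := by
      rintro ⟨c, hc⟩
      have h1 : T v = T (c • x₁) := by rw [map_smul, Algebra.smul_def, hc, hev]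
      exact one_ne_zero ((congrFun (T.injective h1) 0).trans (by simp [x₁]))
    have hint : IsIntegral F e := IsIntegral.of_finite F e
    have hdeg : (minpoly F e).natDegree = 3 := by
      have h1 := minpoly.degree_dvd hint (L := E)
      rw [hE] at h1
      rcases (Nat.dvd_prime Nat.prime_three).mp h1 with h1 | h1
      · exact absurd (minpoly.natDegree_eq_one_iff.mp h1) hrange
      · exact h1
    have hli := linearIndependent_pow (K := F) e
    rw [hdeg] at hli
    let bb := basisOfLinearIndependentOfCardEqFinrank hli (by rw [Fintype.card_fin, hE])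
    have hall : ∀ z, T (mat tt *ᵥ T.symm (z * T x₁)) = z * T x₁ := by
      intro z
      rw [← bb.sum_equivFun z, Finset.sum_mul, map_sum, mulVec_sum, map_sum]
      refine Finset.sum_congr rfl fun i _ => ?_
      rw [smul_mul_assoc, map_smul, mulVec_smul, map_smul]
      congr 1
      simpa [bb] using hfix i
    obtain ⟨y, hvy, hyv⟩ := UnitarySimple.exists_partner hF hv0
    have h1 := hall (T y / T x₁)
    rw [div_mul_cancel₀ _ hT1, T.symm_apply_apply] at h1
    have h2 := T.injective h1
    rw [UnitarySimple.tv_mulVec, hyv, mul_one, add_eq_left] at h2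
    exact hv0 ((smul_eq_zero.mp h2).resolve_left hc₀)
  · -- irreducible elements
    intro g hP
    set M := mat g with hM
    haveI : Fact (Irreducible M.charpoly) := ⟨hP⟩
    haveI : Module.Finite F (AdjoinRoot M.charpoly) := (AdjoinRoot.powerBasis hP.ne_zero).finite
    obtain ⟨ι⟩ : Nonempty (AdjoinRoot M.charpoly →ₐ[F] E) := FiniteField.nonempty_algHom_of_finrank_dvd (by
      rw [hE, (AdjoinRoot.powerBasis hP.ne_zero).finrank, AdjoinRoot.powerBasis_dim,
        M.charpoly_natDegree_eq_dim, Fintype.card_fin])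
    let lam : E := ι (AdjoinRoot.root M.charpoly)
    have hroot : aeval lam M.charpoly = 0 := by
      show aeval (ι _) _ = 0
      rw [aeval_algHom_apply, AdjoinRoot.aeval_eq, AdjoinRoot.mk_self, map_zero]
    let φ : E →+* E := iterateFrobenius E 3 a
    have hφ : ∀ x, φ x = x ^ q := fun x => by rw [hqa]; exact iterateFrobenius_def 3 a x
    let A : Matrix (Fin 3) (Fin 3) E := M.map (algebraMap F E)
    have hA : A.charpoly = M.charpoly.map (algebraMap F E) := Matrix.charpoly_map _ _
    have hrootA : A.charpoly.IsRoot lam := by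
      rw [hA, IsRoot.def, eval_map]; exact hroot
    obtain ⟨x, hx, hxe⟩ := Linear.exists_eigvec hrootA
    have hgu : Mᵀ * M.map σ = 1 := by
      ext i j
      have h0 := su_h g (Pi.single i 1) (Pi.single j 1)
      simp only [Cfsg.hermForm, Matrix.mulVec_single_one, Matrix.col_apply] at h0
      rw [Matrix.mul_apply]
      simp only [Matrix.transpose_apply, Matrix.map_apply, frob_apply]
      rw [show (∑ k, M k i * M k j ^ q) = ∑ k, mat g k i * mat g k j ^ q from rfl, h0]
      have hq0 : q ≠ 0 := by have := SUCover.q_gt_one hF; omega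
      simp [Pi.single_apply, Matrix.one_apply, ite_pow, zero_pow hq0, eq_comm]
    have hAB : Aᵀ * A.map φ = 1 := by
      have h0 := congrArg (fun X : Matrix (Fin 3) (Fin 3) F => X.map (algebraMap F E)) hgu
      simp only [Matrix.map_mul, Matrix.map_one _ (map_zero _) (map_one _)] at h0
      rw [← h0]
      congr 1
      ext i j
      simp [A, hφ, frob_apply]
    have hlam : lam ≠ 0 := by
      intro h0
      rw [h0, aeval_def, eval₂_at_zero] at hroot
      have hdet : M.det = 1 := (g : Matrix.SpecialLinearGroup (Fin 3) F).2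
      rw [Matrix.det_eq_sign_charpoly_coeff, (map_eq_zero _).mp hroot, mul_zero] at hdet
      exact zero_ne_one hdet
    have hne : φ lam ≠ 0 := fun h0 => hlam (φ.injective (by rw [h0, map_zero]))
    have hμ : aeval (φ lam)⁻¹ M.charpoly = 0 := by
      have h1 : A.map φ *ᵥ (φ ∘ x) = φ lam • (φ ∘ x) := by
        funext i
        rw [← RingHom.map_mulVec φ A x i, hxe]
        simp
      have h2 : φ lam • (Aᵀ *ᵥ (φ ∘ x)) = φ ∘ x := by
        rw [← mulVec_smul, ← h1, mulVec_mulVec, hAB, one_mulVec]
      have h3 : Aᵀ *ᵥ (φ ∘ x) = (φ lam)⁻¹ • (φ ∘ x) := ((inv_smul_eq_iff₀ hne).mpr h2.symm).symm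
      have h4 : A.charpoly.eval (φ lam)⁻¹ = 0 := by
        rw [← Matrix.charpoly_transpose A, eval_charpoly]
        refine Matrix.exists_mulVec_eq_zero_iff.mp ⟨φ ∘ x, ?_, ?_⟩
        · intro h0
          exact hx (funext fun i => φ.injective (by rw [Pi.zero_apply, map_zero]; exact congrFun h0 i))
        · rw [sub_mulVec, h3]
          funext i
          simp [Matrix.scalar_apply, mulVec_diagonal]
      rw [hA, eval_map] at h4
      exact h4
    have hint : IsIntegral F lam := IsIntegral.of_finite F lam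
    have hmin : minpoly F lam = M.charpoly :=
      (minpoly.eq_of_irreducible_of_monic hP hroot M.charpoly_monic).symm
    obtain ⟨ψ, hψ⟩ := minpoly.exists_algEquiv_of_root' (K := F) (L := E) (x := (φ lam)⁻¹) (y := lam)
      (Algebra.IsAlgebraic.isAlgebraic _) (by rw [hmin]; exact hμ)
    obtain ⟨⟨i, hi⟩, hiψ⟩ := (FiniteField.bijective_frobeniusAlgEquivOfAlgebraic_pow F E).2 ψ
    simp only at hiψ
    rw [hE] at hi
    have hfp : ∀ (k : ℕ) (x : E), (Fr ^ k) x = x ^ (Fintype.card F ^ k) :=
      fun k x => by rw [AlgEquiv.coe_pow, FiniteField.coe_frobeniusAlgEquivOfAlgebraic_iterate]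
    set μ := (φ lam)⁻¹ with hμdef
    have hlm : μ = lam ^ (Fintype.card F ^ i) := by
      rw [← hfp i lam, ← hψ, ← hiψ]
    have hμq : μ = (lam ^ q)⁻¹ := by rw [hμdef, hφ]
    have hkey : lam ^ (Fintype.card F ^ (2 * i)) = lam ^ (Fintype.card F) := by
      calc lam ^ (Fintype.card F ^ (2 * i)) = μ ^ (Fintype.card F ^ i) := by
            rw [hlm, ← pow_mul, two_mul, pow_add]
        _ = ((lam ^ (Fintype.card F ^ i)) ^ q)⁻¹ := by
            rw [hμq, inv_pow, ← pow_mul, ← pow_mul, mul_comm q]
        _ = (μ ^ q)⁻¹ := by rw [← hlm]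
        _ = lam ^ (Fintype.card F) := by rw [hμq, inv_pow, inv_inv, ← pow_mul, hF, sq]
    have hi2 : i = 2 := by
      have hprim : Algebra.adjoin F {lam} = ⊤ := by
        rw [← IntermediateField.adjoin_simple_toSubalgebra_of_isAlgebraic hint.isAlgebraic,
          (Field.primitive_element_iff_minpoly_natDegree_eq F lam).mpr (by
            rw [hmin, M.charpoly_natDegree_eq_dim, Fintype.card_fin, hE])]
        rfl
      have hFr2 : Fr ^ (2 * i) = Fr ^ 1 := by
        apply AlgEquiv.coe_algHom_injective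
        refine AlgHom.ext_of_adjoin_eq_top hprim ?_
        intro z hz
        rw [Set.mem_singleton_iff] at hz
        subst hz
        show (Fr ^ (2 * i)) lam = (Fr ^ 1) lam
        rw [hfp, hfp, hkey, pow_one]
      have hord : orderOf Fr = 3 := by rw [FiniteField.orderOf_frobeniusAlgEquivOfAlgebraic, hE]
      have hmod := pow_eq_pow_iff_modEq.mp hFr2
      rw [hord, Nat.ModEq] at hmod
      omega
    have hnorm : lam * τ lam = 1 := by
      have h1 : lam ^ (q ^ 4) * lam ^ q = 1 := by
        rw [hμq, hi2, hF, ← pow_mul] at hlm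
        rw [← hlm, inv_mul_cancel₀ (pow_ne_zero q hlam)]
      apply φ.injective
      rw [map_mul, map_one, hφ, hφ, hτ, ← pow_mul, ← pow_succ, mul_comm, h1]
    have hiso : ∀ x y : E, B (lam * x) (lam * y) = B x y := fun x y => by
      show Algebra.trace F E _ = Algebra.trace F E _
      rw [map_mul τ, mul_mul_mul_comm, hnorm, one_mul]
    obtain ⟨e, he⟩ := exists_similar (f := M.charpoly) hP (Matrix.toLinAlgEquiv' M) (Algebra.lmul F E lam)
      (by rw [aeval_algHom_apply, aeval_self_charpoly, map_zero])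
      (by rw [aeval_algHom_apply, hroot, map_zero])
      (by rw [hE, Module.finrank_fin_fun])
    have hdet : LinearMap.det (Algebra.lmul F E lam) = 1 := by
      have hc : Algebra.lmul F E lam = e.conj (Matrix.toLinAlgEquiv' M) := LinearMap.ext fun z => by
        rw [LinearEquiv.conj_apply_apply, he, e.apply_symm_apply]
      rw [hc, LinearEquiv.conj_apply, LinearMap.comp_assoc, LinearMap.det_conj]
      show LinearMap.det (Matrix.toLin' M) = 1
      rw [LinearMap.det_toLin']
      exact (g : Matrix.SpecialLinearGroup (Fin 3) F).2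
    obtain ⟨k, hk⟩ := mkop (Algebra.lmul F E lam) hiso hdet
    refine ⟨k, fun e' => ⟨e', fun z => ?_⟩, e.trans T.symm, fun z => ?_⟩
    · rw [hk, hk, T.apply_symm_apply, T.apply_symm_apply]
      show lam * (e' * z) = e' * (lam * z)
      ring
    · show T.symm (e (M *ᵥ z)) = mat k *ᵥ T.symm (e z)
      apply T.injective
      rw [hk, T.apply_symm_apply, T.apply_symm_apply]
      exact he z
  · -- the unipotent element
    have h3 : Fr ^ 3 = 1 := by
      have := pow_orderOf_eq_one Fr
      rwa [FiniteField.orderOf_frobeniusAlgEquivOfAlgebraic, hE] at this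
    have hdet : LinearMap.det (Fr.toLinearMap) = 1 := by
      have h1 : Fr.toLinearMap ^ 3 = 1 := LinearMap.ext fun z => by
        have := AlgEquiv.congr_fun h3 z
        simpa [pow_succ] using this
      have h2 := congrArg LinearMap.det h1
      rw [map_pow, map_one] at h2
      exact frobenius_inj F 3 (by simpa [frobenius_def] using h2)
    have hiso : ∀ x y : E, B (Fr x) (Fr y) = B x y := fun x y => by
      show Algebra.trace F E _ = Algebra.trace F E _
      rw [hFrτ, ← map_mul, Algebra.trace_eq_of_algEquiv]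
    obtain ⟨k, hk⟩ := mkop Fr.toLinearMap hiso hdet
    refine ⟨k, fun e => ⟨Fr e, fun z => ?_⟩, ?_⟩
    · rw [hk, hk, T.apply_symm_apply, T.apply_symm_apply]
      exact map_mul Fr e z
    obtain ⟨z, hz⟩ : ∃ z : E, Algebra.trace F E z ≠ 0 := by
      by_contra hno
      push Not at hno
      exact Algebra.trace_ne_zero F E (LinearMap.ext hno)
    have hN : ∀ x, T ((mat k - 1) *ᵥ x) = Fr (T x) - T x := fun x => by
      rw [sub_mulVec, one_mulVec, map_sub, hk]; rfl
    have hsum : Fr (Fr z) + Fr z + z = algebraMap F E (Algebra.trace F E z) := by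
      rw [FiniteField.algebraMap_trace_eq_sum_pow, hE, Finset.sum_range_succ, Finset.sum_range_succ,
        Finset.sum_range_succ, Finset.sum_range_zero, hFr, hFr, ← pow_mul, ← sq, pow_zero, pow_one, pow_one,
        Nat.card_eq_fintype_card]
      ring
    have h30 : (3 : E) = 0 := by exact_mod_cast CharP.cast_eq_zero E 3
    have key : Fr (Fr z - z) - (Fr z - z) = algebraMap F E (Algebra.trace F E z) := by
      rw [← hsum, map_sub]
      linear_combination (-(Fr z)) * h30
    refine ⟨T.symm z, ?_, ?_⟩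
    · intro h0
      apply hz
      have h1 := congrArg T h0
      rw [hN, hN, T.apply_symm_apply, key, map_zero] at h1
      exact (map_eq_zero _).mp h1
    · apply T.injective
      rw [hN, hN, hN, T.apply_symm_apply, key, AlgEquiv.commutes, sub_self, map_zero]

theorem covered (hq3 : ∃ a, 1 ≤ a ∧ q = 3 ^ a) : Covered (Cfsg.PSU 3 F q) := by
  obtain ⟨K, hK, hKirr, k₀, hk₀, w₀, hw₀, hw₀'⟩ := exists_semilinear hF hq3
  let e : Fin 3 → F := Pi.single ⟨0, by norm_num⟩ 1
  let L := F ∙ e
  have hee : ∀ i j : Fin 3, h (Pi.single i 1) (Pi.single j 1) = if i = j then 1 else 0 := fun i j => by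
    rw [UnitaryOrder.herm_single_right hF, Pi.single_apply]
    simp [eq_comm]
  refine covered_quotient _ (stab L) K ?_ hK (center_bot hF hq3 _) (center_bot hF hq3 _) fun g => ?_
  · intro htop
    let v : Fin 3 → F := Pi.single 1 1
    obtain ⟨x, r, hx⟩ := line_trans hF (n := 3) (by norm_num) (v := v) (by rw [hee]; simp)
    have hm : x⁻¹ ∈ stab L := by rw [htop]; exact Subgroup.mem_top _
    have h2 := hm (r • e) (L.smul_mem r (Submodule.mem_span_singleton_self e))
    rw [← hx, mat_inv_mulVec'] at h2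
    obtain ⟨a, ha⟩ := Submodule.mem_span_singleton.mp h2
    have := congrFun ha 1
    simp [e, v] at this
  rcases cases3 hF hq3 g with ⟨v, r, hv, hgv⟩ | hP | ⟨w, hw, hw'⟩
  · obtain ⟨x, s, hx⟩ := line_trans hF (n := 3) (by norm_num) hv
    refine ⟨x, Or.inl (conj_mem (U := F ∙ v) ?_ ?_ ?_)⟩
    · intro w hw
      obtain ⟨a, rfl⟩ := Submodule.mem_span_singleton.mp hw
      rw [mulVec_smul, hgv, smul_smul]
      exact Submodule.smul_mem _ _ (Submodule.mem_span_singleton_self v)
    · intro w hw
      obtain ⟨a, rfl⟩ := Submodule.mem_span_singleton.mp hw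
      have hs : s ≠ 0 := by
        rintro rfl
        have := mat_inv_mulVec' x v
        rw [hx, zero_smul, mulVec_zero] at this
        exact hv (by rw [← this]; simp [Cfsg.hermForm])
      have he : e = s⁻¹ • (mat x *ᵥ v) := by rw [hx, smul_smul, inv_mul_cancel₀ hs, one_smul]
      rw [he, mulVec_smul, mulVec_smul, mat_inv_mulVec', smul_smul]
      exact Submodule.smul_mem _ _ (Submodule.mem_span_singleton_self v)
    · intro w hw
      obtain ⟨a, rfl⟩ := Submodule.mem_span_singleton.mp hw
      rw [mulVec_smul, hx, smul_smul]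
      exact Submodule.smul_mem _ _ (Submodule.mem_span_singleton_self e)
  · obtain ⟨k, hk, f, hf⟩ := hKirr g hP
    obtain ⟨x, hx⟩ := conj_of_similar hF hq3 g k f hf
    exact ⟨x, Or.inr (by rw [hx]; exact hk)⟩
  · obtain ⟨f, hf⟩ := similar_of_nilpotent (Module.finrank_fin_fun F) (Module.finrank_fin_fun F)
      (Matrix.toLin' (mat g - 1)) (Matrix.toLin' (mat k₀ - 1)) (v := w) (w := w₀) hw hw' hw₀ hw₀'
    obtain ⟨x, hx⟩ := conj_of_similar hF hq3 g k₀ f fun z => by
      have h1 := hf z
      rw [Matrix.toLin'_apply, Matrix.toLin'_apply, sub_mulVec, sub_mulVec, one_mulVec, one_mulVec, map_sub] at h1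
      exact sub_left_injective h1
    exact ⟨x, Or.inr (by rw [hx]; exact hk₀)⟩

end CfsgLib.NormalCover.U3
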