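import Cfsg.Agent.Lib.NormalCover.Unitary
import Cfsg.Agent.Lib.NormalCover.Linear
import Cfsg.Agent.Lib.SemisimpleClasses

/-!
`PSU₄(q)` is covered by the conjugates of the stabilisers of an anisotropic line and of a totally isotropic plane.
-/

set_option autoImplicit false
set_option linter.unusedSectionVars false

namespace CfsgLib.NormalCover.U4

open Matrix CfsgLib.UnitaryTransvection Polynomial
open CfsgLib.UnitarySimple (mat mat_mul mat_one su_h mat_inv_mulVec mat_inv_mulVec')
open CfsgLib.NormalCover.Unitary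

universe u

variable {F : Type u} [Field F] [Fintype F] {q : ℕ} (hF : Fintype.card F = q ^ 2)

local notation "σ" => frob hF
local notation "h" => Cfsg.hermForm 4 F q

include hF

theorem not_irreducible (g : Cfsg.SU 4 F q) : ¬ Irreducible (mat g).charpoly := by
  intro hP
  set M := mat g with hM
  haveI : Fact (Irreducible M.charpoly) := ⟨hP⟩
  let E := AdjoinRoot M.charpoly
  haveI : Module.Finite F E := (AdjoinRoot.powerBasis hP.ne_zero).finite
  haveI : Finite E := Module.finite_of_finite F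
  obtain ⟨p, hp⟩ := CharP.exists F
  obtain ⟨hpp, j, -, hj⟩ := SUCover.q_pow hF (p := p)
  haveI := Fact.mk hpp
  haveI : CharP E p := charP_of_injective_algebraMap (algebraMap F E).injective p
  let φ : E →+* E := iterateFrobenius E p j
  have hφ : ∀ x, φ x = x ^ q := fun x => by rw [hj]; exact iterateFrobenius_def p j x
  let lam : E := AdjoinRoot.root M.charpoly
  let A : Matrix (Fin 4) (Fin 4) E := M.map (algebraMap F E)
  have hA : A.charpoly = M.charpoly.map (algebraMap F E) := Matrix.charpoly_map _ _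
  have hroot : A.charpoly.IsRoot lam := by
    rw [hA, IsRoot.def, eval_map, AdjoinRoot.algebraMap_eq, AdjoinRoot.eval₂_root]
  obtain ⟨x, hx, hxe⟩ := Linear.exists_eigvec hroot
  have hgu : Mᵀ * M.map σ = 1 := by
    ext a b
    have h0 := su_h g (Pi.single a 1) (Pi.single b 1)
    simp only [Cfsg.hermForm, Matrix.mulVec_single_one, Matrix.col_apply] at h0
    rw [Matrix.mul_apply]
    simp only [Matrix.transpose_apply, Matrix.map_apply, frob_apply]
    rw [show (∑ i, M i a * M i b ^ q) = ∑ i, mat g i a * mat g i b ^ q from rfl, h0]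
    have hq : q ≠ 0 := by have := SUCover.q_gt_one hF; omega
    simp [Pi.single_apply, Matrix.one_apply, ite_pow, zero_pow hq, eq_comm]
  have hAB : Aᵀ * A.map φ = 1 := by
    have h0 := congrArg (fun X : Matrix (Fin 4) (Fin 4) F => X.map (algebraMap F E)) hgu
    simp only [Matrix.map_mul, Matrix.map_one _ (map_zero _) (map_one _)] at h0
    rw [← h0]
    congr 1
    ext a b
    simp [A, hφ, frob_apply]
  have hlam : lam ≠ 0 := by
    intro h0
    have h1 : M.charpoly.coeff 0 = 0 := by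
      have h2 := AdjoinRoot.eval₂_root M.charpoly
      rw [show AdjoinRoot.root M.charpoly = 0 from h0, eval₂_at_zero] at h2
      exact (map_eq_zero _).mp h2
    have hdet : M.det = 1 := (g : Matrix.SpecialLinearGroup (Fin 4) F).2
    rw [Matrix.det_eq_sign_charpoly_coeff, h1, mul_zero] at hdet
    exact zero_ne_one hdet
  have hμ : A.charpoly.IsRoot (φ lam)⁻¹ := by
    have h1 : A.map φ *ᵥ (φ ∘ x) = φ lam • (φ ∘ x) := by
      funext i
      rw [← RingHom.map_mulVec φ A x i, hxe]
      simp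
    have h2 : φ lam • (Aᵀ *ᵥ (φ ∘ x)) = φ ∘ x := by
      rw [← mulVec_smul, ← h1, mulVec_mulVec, hAB, one_mulVec]
    have hne : φ lam ≠ 0 := fun h0 => hlam (φ.injective (by rw [h0, map_zero]))
    have h3 : Aᵀ *ᵥ (φ ∘ x) = (φ lam)⁻¹ • (φ ∘ x) := ((inv_smul_eq_iff₀ hne).mpr h2.symm).symm
    show eval _ _ = 0
    rw [← Matrix.charpoly_transpose A, eval_charpoly]
    refine Matrix.exists_mulVec_eq_zero_iff.mp ⟨φ ∘ x, ?_, ?_⟩
    · intro h0
      exact hx (funext fun i => φ.injective (by rw [Pi.zero_apply, map_zero]; exact congrFun h0 i))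
    · rw [sub_mulVec, h3]
      funext i
      simp [Matrix.scalar_apply, mulVec_diagonal]
  have hmin : minpoly F lam = M.charpoly := by
    have := AdjoinRoot.minpoly_root hP.ne_zero
    rwa [M.charpoly_monic.leadingCoeff, inv_one, C_1, mul_one] at this
  have hrootμ : aeval (φ lam)⁻¹ M.charpoly = 0 := by
    have h1 : (A.charpoly).eval (φ lam)⁻¹ = 0 := hμ
    rw [hA, eval_map] at h1
    exact h1
  obtain ⟨τ, hτ⟩ := minpoly.exists_algEquiv_of_root' (K := F) (L := E) (x := (φ lam)⁻¹) (y := lam)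
    (Algebra.IsAlgebraic.isAlgebraic _) (by rw [hmin]; exact hrootμ)
  obtain ⟨⟨i, hi⟩, hiτ⟩ := (FiniteField.bijective_frobeniusAlgEquivOfAlgebraic_pow F E).2 τ
  simp only at hiτ
  let Fr := FiniteField.frobeniusAlgEquivOfAlgebraic F E
  have hfp : ∀ (k : ℕ) (x : E), (Fr ^ k) x = x ^ (Fintype.card F ^ k) :=
    fun k x => by rw [AlgEquiv.coe_pow, FiniteField.coe_frobeniusAlgEquivOfAlgebraic_iterate]
  set μ := (φ lam)⁻¹ with hμdef
  have hlm : μ = lam ^ (Fintype.card F ^ i) := by
    rw [← hfp i lam, ← hτ, ← hiτ]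
  have hμq : μ = (lam ^ q)⁻¹ := by rw [hμdef, hφ]
  have hkey : lam ^ (Fintype.card F ^ (2 * i)) = lam ^ (Fintype.card F) := by
    calc lam ^ (Fintype.card F ^ (2 * i)) = μ ^ (Fintype.card F ^ i) := by
          rw [hlm, ← pow_mul, two_mul, pow_add]
      _ = ((lam ^ (Fintype.card F ^ i)) ^ q)⁻¹ := by
          rw [hμq, inv_pow, ← pow_mul, ← pow_mul, mul_comm q]
      _ = (μ ^ q)⁻¹ := by rw [← hlm]
      _ = lam ^ (Fintype.card F) := by rw [hμq, inv_pow, inv_inv, ← pow_mul, hF, sq]
  have hFr : Fr ^ (2 * i) = Fr ^ 1 := by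
    apply AlgEquiv.coe_algHom_injective
    apply AdjoinRoot.algHom_ext
    show (Fr ^ (2 * i)) lam = (Fr ^ 1) lam
    rw [hfp, hfp, hkey, pow_one]
  have hord : orderOf Fr = 4 := by
    rw [FiniteField.orderOf_frobeniusAlgEquivOfAlgebraic, (AdjoinRoot.powerBasis hP.ne_zero).finrank,
      AdjoinRoot.powerBasis_dim, M.charpoly_natDegree_eq_dim, Fintype.card_fin]
  have hmod := pow_eq_pow_iff_modEq.mp hFr
  rw [hord, Nat.ModEq] at hmod
  omega

/-- An anisotropic eigenvector or an invariant totally isotropic plane. -/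
def Good4 (g : Cfsg.SU 4 F q) : Prop :=
  (∃ (v : Fin 4 → F) (r : F), h v v ≠ 0 ∧ mat g *ᵥ v = r • v) ∨
    ∃ P : Submodule F (Fin 4 → F), Module.finrank F P = 2 ∧ (∀ x ∈ P, ∀ y ∈ P, h x y = 0) ∧
      ∀ x ∈ P, mat g *ᵥ x ∈ P

theorem plane_of (g : Cfsg.SU 4 F q) {v z : Fin 4 → F} (hind : LinearIndependent F ![v, z]) {μ a b : F}
    (hvv : h v v = 0) (hzz : h z z = 0) (hvz : h v z = 0) (hv : mat g *ᵥ v = μ • v)
    (hz : mat g *ᵥ z = a • v + b • z) : Good4 g := by
  refine Or.inr ⟨Submodule.span F (Set.range ![v, z]), ?_, ?_, ?_⟩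
  · rw [finrank_span_eq_card hind, Fintype.card_fin]
  · have hzv : h z v = 0 := by rw [← h_swap hF, hvz, map_zero]
    exact fun x hx y hy => IsotropicCount.herm_span2 hF _ (by
      rintro _ ⟨i, rfl⟩ _ ⟨j, rfl⟩
      fin_cases i <;> fin_cases j <;> simp [hvv, hzz, hvz, hzv]) x hx y hy
  · intro x hx
    obtain ⟨c, rfl⟩ := (Submodule.mem_span_range_iff_exists_fun F).mp hx
    rw [Fin.sum_univ_two]
    simp only [Matrix.cons_val_zero, Matrix.cons_val_one, mulVec_add, mulVec_smul, hv, hz]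
    exact add_mem (Submodule.smul_mem _ _ (Submodule.smul_mem _ _ (Submodule.subset_span ⟨0, rfl⟩)))
      (Submodule.smul_mem _ _ (add_mem (Submodule.smul_mem _ _ (Submodule.subset_span ⟨0, rfl⟩))
        (Submodule.smul_mem _ _ (Submodule.subset_span ⟨1, rfl⟩))))

theorem of_isotropic_eigen (g : Cfsg.SU 4 F q) {v : Fin 4 → F} {μ : F} (hv0 : v ≠ 0) (hvv : h v v = 0)
    (hv : mat g *ᵥ v = μ • v) : Good4 g := by
  set M := mat g
  have hμ : μ ≠ 0 := by
    rintro rfl
    apply hv0
    have := mat_inv_mulVec' g v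
    rw [hv, zero_smul, mulVec_zero] at this
    exact this.symm
  obtain ⟨y, hvy, hyv⟩ := UnitarySimple.exists_partner hF hv0
  obtain ⟨e, he⟩ := exists_trace_one hF
  obtain ⟨w, hw⟩ : ∃ w, w = y + (-(h y y) * e) • v := ⟨_, rfl⟩
  have hww : h w w = 0 := by
    rw [hw, h_add_left, h_add_right hF, h_add_right hF, h_smul_left, h_smul_left, h_smul_right hF,
      h_smul_right hF, hvv, hvy, hyv, map_mul, map_neg, h_swap hF y y]
    linear_combination (-(h y y)) * he
  have hvw : h v w = 1 := by rw [hw, h_add_right hF, h_smul_right hF, hvv, hvy, mul_zero, add_zero]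
  have hwv : h w v = 1 := by rw [← h_swap hF, hvw, map_one]
  let L : (Fin 4 → F) →ₗ[F] F × F :=
    { toFun := fun x => (h x v, h x w)
      map_add' := fun a b => by simp [h_add_left]
      map_smul' := fun a b => by simp [h_smul_left] }
  set W := LinearMap.ker L with hW
  have hmemW : ∀ x, x ∈ W ↔ h x v = 0 ∧ h x w = 0 := fun x => by
    rw [hW, LinearMap.mem_ker]
    exact Prod.ext_iff
  have hW2 : Module.finrank F W = 2 := by
    have hs : LinearMap.range L = ⊤ := by
      rw [LinearMap.range_eq_top]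
      intro c
      exact ⟨c.2 • v + c.1 • w, by simp [L, h_add_left, h_smul_left, hvv, hwv, hvw, hww]⟩
    have h1 := LinearMap.finrank_range_add_finrank_ker L
    rw [hs, finrank_top, Module.finrank_prod, Module.finrank_self, Module.finrank_fin_fun, ← hW] at h1
    omega
  have hgv : ∀ x, h x v = 0 → h (M *ᵥ x) v = 0 := by
    intro x hx
    have h1 := su_h g x v
    rw [hv, h_smul_right hF, hx] at h1
    exact (mul_eq_zero.mp h1).resolve_left fun h0 => hμ (by rw [← frob_frob hF μ, h0, map_zero])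
  let T : Module.End F W :=
    LinearMap.codRestrict W
      { toFun := fun x => M *ᵥ (x : Fin 4 → F) - h (M *ᵥ (x : Fin 4 → F)) w • v
        map_add' := fun a b => by
          simp only [Submodule.coe_add, mulVec_add, h_add_left, add_smul]
          abel
        map_smul' := fun a b => by
          simp only [Submodule.coe_smul, mulVec_smul, h_smul_left, RingHom.id_apply, smul_sub, smul_smul] }
      (fun x => by
        rw [hmemW]
        have hx := (hmemW _).mp x.2
        show h (M *ᵥ (x : Fin 4 → F) - _) v = 0 ∧ h (M *ᵥ (x : Fin 4 → F) - _) w = 0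
        exact ⟨by rw [h_sub_left, h_smul_left, hvv, mul_zero, sub_zero, hgv _ hx.1],
          by rw [h_sub_left, h_smul_left, hvw, mul_one, sub_self]⟩)
  have hTv : ∀ x : W, M *ᵥ (x : Fin 4 → F) = (T x : Fin 4 → F) + h (M *ᵥ (x : Fin 4 → F)) w • v := fun x =>
    (sub_add_cancel (M *ᵥ (x : Fin 4 → F)) _).symm
  have hT : ∀ x y : W, h (T x : Fin 4 → F) (T y) = h (x : Fin 4 → F) y := by
    intro x z
    have hx := (hmemW _).mp (T x).2
    have hz := (hmemW _).mp (T z).2
    have hz' : h v (T z : Fin 4 → F) = 0 := by rw [← h_swap hF, hz.1, map_zero]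
    rw [← su_h g (x : Fin 4 → F) z, hTv x, hTv z, h_add_left, h_add_right hF, h_add_right hF, h_smul_left,
      h_smul_left, h_smul_right hF, h_smul_right hF, hx.1, hz', hvv]
    ring
  have hnd : ∀ x : W, (∀ y : W, h (x : Fin 4 → F) y = 0) → x = 0 := by
    intro x hx
    refine Subtype.ext (h_nondeg hF fun u => ?_)
    have hx' := (hmemW _).mp x.2
    have hu : u - h u w • v - h u v • w ∈ W := by
      rw [hmemW]
      simp [h_sub_left, h_smul_left, hvv, hvw, hwv, hww]
    have h1 := hx ⟨_, hu⟩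
    simp only [h_sub_right hF, h_smul_right hF, hx'.1, hx'.2, mul_zero, sub_zero] at h1
    exact h1
  have hli : ∀ z : W, z ≠ 0 → LinearIndependent F ![v, (z : Fin 4 → F)] := by
    intro z hz
    rw [LinearIndependent.pair_iff' hv0]
    intro a ha
    have h1 := ((hmemW _).mp z.2).2
    rw [← ha, h_smul_left, hvw, mul_one] at h1
    rw [h1, zero_smul] at ha
    exact hz (Subtype.ext ha.symm)
  have case_eig : ∀ (x : W) (lam : F), x ≠ 0 → T x = lam • x →
      Good4 g ∨ (h (x : Fin 4 → F) x ≠ 0 ∧ lam = μ) := by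
    intro x lam hx hTx
    have hM : M *ᵥ (x : Fin 4 → F) = h (M *ᵥ (x : Fin 4 → F)) w • v + lam • (x : Fin 4 → F) := by
      conv_lhs => rw [hTv x, hTx, Submodule.coe_smul]
      rw [add_comm]
    have hxv := ((hmemW _).mp x.2).1
    have hvx : h v (x : Fin 4 → F) = 0 := by rw [← h_swap hF, hxv, map_zero]
    by_cases hxx : h (x : Fin 4 → F) x = 0
    · exact Or.inl (plane_of hF g (hli x hx) hvv hxx hvx hv hM)
    by_cases hl : lam = μ
    · exact Or.inr ⟨hxx, hl⟩
    generalize h (M *ᵥ (x : Fin 4 → F)) w = s at hM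
    refine Or.inl (Or.inl ⟨(x : Fin 4 → F) + (s / (lam - μ)) • v, lam, ?_, ?_⟩)
    · simpa [h_add_left, h_add_right hF, h_smul_left, h_smul_right hF, hvv, hxv, hvx] using hxx
    · rw [mulVec_add, mulVec_smul, hv, hM, smul_add, smul_smul, smul_smul]
      have hr : s + s / (lam - μ) * μ = lam * (s / (lam - μ)) := by
        field_simp [sub_ne_zero.mpr hl]
        ring
      rw [← hr]
      module
  obtain ⟨x, lam, hx, hTx⟩ := two_dim_eigen hF W hW2 T hT hnd
  rcases case_eig x lam hx hTx with hG | ⟨hxx, rfl⟩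
  · exact hG
  let K : W →ₗ[F] F :=
    { toFun := fun z => h (z : Fin 4 → F) x
      map_add' := fun a b => by simp [h_add_left]
      map_smul' := fun a b => by simp [h_smul_left] }
  have hK1 : Module.finrank F (LinearMap.ker K) = 1 := by
    have hs : LinearMap.range K = ⊤ := by
      rw [LinearMap.range_eq_top]
      intro c
      exact ⟨(c / h (x : Fin 4 → F) x) • x, by simp [K, h_smul_left, hxx]⟩
    have h1 := LinearMap.finrank_range_add_finrank_ker K
    rw [hs, finrank_top, Module.finrank_self, hW2] at h1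
    omega
  obtain ⟨z, hz, hzne⟩ := Submodule.exists_mem_ne_zero_of_ne_bot (p := LinearMap.ker K) (by
    intro hb
    rw [hb, finrank_bot] at hK1
    exact zero_ne_one hK1)
  have hzspan : (F ∙ z) = LinearMap.ker K := by
    refine Submodule.eq_of_le_of_finrank_eq ((Submodule.span_singleton_le_iff_mem _ _).mpr hz) ?_
    rw [finrank_span_singleton hzne, hK1]
  rw [LinearMap.mem_ker] at hz
  change h (z : Fin 4 → F) x = 0 at hz
  have hTz : T z ∈ LinearMap.ker K := by
    rw [LinearMap.mem_ker]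
    show h (T z : Fin 4 → F) x = 0
    have h1 := hT z x
    rw [hTx, Submodule.coe_smul, h_smul_right hF, hz] at h1
    exact (mul_eq_zero.mp h1).resolve_left fun h0 => hμ (by rw [← frob_frob hF lam, h0, map_zero])
  rw [← hzspan, Submodule.mem_span_singleton] at hTz
  obtain ⟨lam', hlam'⟩ := hTz
  have hTz' : T z = lam' • z := hlam'.symm
  rcases case_eig z lam' hzne hTz' with hG | ⟨hzz, rfl⟩
  · exact hG
  obtain ⟨r, hr⟩ := exists_norm_eq hF (c := -(h (x : Fin 4 → F) x / h (z : Fin 4 → F) z))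
    (by rw [map_neg, map_div₀, h_swap hF, h_swap hF])
  have hxz : h (x : Fin 4 → F) z = 0 := by rw [← h_swap hF, hz, map_zero]
  let u : W := x + r • z
  have hu : u ≠ 0 := by
    intro h0
    have h1 : h ((u : W) : Fin 4 → F) x = 0 := by rw [h0]; simp [Cfsg.hermForm]
    simp [u, h_add_left, h_smul_left, hz, hxx] at h1
  have hTu : T u = lam' • u := by
    rw [map_add, map_smul, hTx, hTz', smul_add, smul_comm]
  rcases case_eig u lam' hu hTu with hG | ⟨huu, -⟩
  · exact hG
  exfalso
  apply huu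
  simp only [u, Submodule.coe_add, Submodule.coe_smul, h_add_left, h_add_right hF, h_smul_left, h_smul_right hF,
    hxz, hz, mul_zero, add_zero, zero_add]
  rw [← mul_assoc, mul_comm (σ r) r, hr]
  field_simp
  ring

theorem good4 (g : Cfsg.SU 4 F q) : Good4 g := by
  set M := mat g with hM
  by_cases he : ∃ a, M.charpoly.IsRoot a
  · obtain ⟨a, ha⟩ := he
    obtain ⟨v, hv0, hv⟩ := Linear.exists_eigvec ha
    by_cases hvv : h v v = 0
    · exact of_isotropic_eigen hF g hv0 hvv hv
    · exact Or.inl ⟨v, a, hvv, hv⟩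
  push Not at he
  obtain ⟨π, hπm, hπi, hπd⟩ := exists_monic_irreducible_factor M.charpoly (by
    intro hu
    have := natDegree_eq_zero_of_isUnit hu
    rw [M.charpoly_natDegree_eq_dim, Fintype.card_fin] at this
    omega)
  obtain ⟨c, hc⟩ := hπd
  have hne : M.charpoly ≠ 0 := M.charpoly_monic.ne_zero
  have hc0 : c ≠ 0 := fun h0 => hne (by rw [hc, h0, mul_zero])
  have hdeg : π.natDegree + c.natDegree = 4 := by
    rw [← natDegree_mul hπm.ne_zero hc0, ← hc, M.charpoly_natDegree_eq_dim, Fintype.card_fin]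
  have key : ∀ p : F[X], p ∣ M.charpoly → p.natDegree ≠ 1 := by
    intro p hp h1
    obtain ⟨a, ha⟩ := exists_root_of_degree_eq_one
      (degree_eq_iff_natDegree_eq_of_pos Nat.one_pos |>.mpr h1)
    exact he a (ha.dvd hp)
  have h1 := key π ⟨c, hc⟩
  have h2 := key c ⟨π, by rw [hc, mul_comm]⟩
  have h3 := hπi.natDegree_pos
  have h4 : π.natDegree ≠ 4 := by
    intro h4
    apply not_irreducible hF g
    have hcu : IsUnit c := isUnit_iff_degree_eq_zero.mpr (by
      rw [degree_eq_natDegree hc0, show c.natDegree = 0 by omega]; rfl)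
    rw [← hM, hc]
    exact (associated_mul_unit_right π c hcu).irreducible hπi
  have hd2 : π.natDegree = 2 := by omega
  obtain ⟨v, hv0, hv⟩ := SemisimpleClasses.exists_killed (Matrix.toLin' M) hπi (by
    rw [Matrix.charpoly_toLin']; exact ⟨c, hc⟩)
  have hnoev : ∀ (x : Fin 4 → F) (a : F), x ≠ 0 → M *ᵥ x ≠ a • x := by
    intro x a hx hxa
    refine he a ?_
    rw [IsRoot.def, eval_charpoly]
    refine Matrix.exists_mulVec_eq_zero_iff.mp ⟨x, hx, ?_⟩
    rw [sub_mulVec, hxa]
    funext i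
    simp [mulVec_diagonal]
  have hind : LinearIndependent F ![v, M *ᵥ v] := by
    rw [LinearIndependent.pair_iff' hv0]
    exact fun a ha => hnoev v a hv0 ha.symm
  set U := Submodule.span F (Set.range ![v, M *ᵥ v]) with hU
  have hU2 : Module.finrank F U = 2 := by rw [hU, finrank_span_eq_card hind, Fintype.card_fin]
  have hinv : ∀ x ∈ U, M *ᵥ x ∈ U := by
    intro x hx
    obtain ⟨d, rfl⟩ := (Submodule.mem_span_range_iff_exists_fun F).mp hx
    rw [Fin.sum_univ_two]
    simp only [Matrix.cons_val_zero, Matrix.cons_val_one, mulVec_add, mulVec_smul]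
    have hsq : M *ᵥ (M *ᵥ v) = (-π.coeff 1) • (M *ᵥ v) + (-π.coeff 0) • v := by
      have hexp : π = X ^ 2 + C (π.coeff 1) * X + C (π.coeff 0) := by
        conv_lhs => rw [hπm.as_sum, hd2]
        simp [Finset.sum_range_succ]
        ring
      rw [hexp] at hv
      simp [sq, Module.algebraMap_end_apply, Matrix.toLin'_apply] at hv
      rw [neg_smul, neg_smul, ← neg_add, eq_neg_iff_add_eq_zero]
      rw [← add_assoc, mulVec_mulVec]
      exact hv
    rw [hsq]
    exact add_mem (Submodule.smul_mem _ _ (Submodule.subset_span ⟨1, rfl⟩)) (Submodule.smul_mem _ _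
      (add_mem (Submodule.smul_mem _ _ (Submodule.subset_span ⟨1, rfl⟩))
        (Submodule.smul_mem _ _ (Submodule.subset_span ⟨0, rfl⟩))))
  let T : Module.End F U := (Matrix.toLin' M).restrict hinv
  have hTe : ∀ x : U, (T x : Fin 4 → F) = M *ᵥ (x : Fin 4 → F) := fun x => rfl
  have hT : ∀ x y : U, h (T x : Fin 4 → F) (T y) = h (x : Fin 4 → F) y := fun x y => su_h g _ _
  by_cases hnd : ∀ x : U, (∀ y : U, h (x : Fin 4 → F) y = 0) → x = 0
  · exfalso
    obtain ⟨x, r, hx, hxr⟩ := two_dim_eigen hF U hU2 T hT hnd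
    exact hnoev x r (fun h0 => hx (Subtype.ext h0)) (by rw [← hTe, hxr]; rfl)
  push Not at hnd
  obtain ⟨x, hx, hx0⟩ := hnd
  have hTx : ∀ y : U, h (T x : Fin 4 → F) y = 0 := by
    intro y
    obtain ⟨z, rfl⟩ : ∃ z, T z = y := by
      refine (LinearMap.injective_iff_surjective.mp ?_) y
      intro a b hab
      refine Subtype.ext ?_
      have hab' := congrArg Subtype.val hab
      rw [hTe, hTe] at hab'
      rw [← mat_inv_mulVec' g (a : Fin 4 → F), ← hM, hab', hM, mat_inv_mulVec']
    rw [hT]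
    exact hx z
  have hxind : LinearIndependent F ![x, T x] := by
    rw [LinearIndependent.pair_iff' hx0]
    intro a ha
    exact hnoev x a (fun h0 => hx0 (Subtype.ext h0)) (by rw [← hTe, ← ha]; rfl)
  have hspan : ∀ z : U, ∀ y : U, h (z : Fin 4 → F) y = 0 := by
    intro z y
    let b := basisOfLinearIndependentOfCardEqFinrank hxind (by rw [Fintype.card_fin, hU2])
    rw [← b.sum_equivFun z]
    simp [b, Fin.sum_univ_two, h_add_left, h_smul_left, hx y, hTx y]
  exact Or.inr ⟨U, hU2, fun a ha b hb => hspan ⟨a, ha⟩ ⟨b, hb⟩, hinv⟩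

/-- Totally isotropic planes are conjugate under `SU₄`. -/
theorem plane_trans {P₀ P : Submodule F (Fin 4 → F)} (h₀ : Module.finrank F P₀ = 2)
    (h₀' : ∀ x ∈ P₀, ∀ y ∈ P₀, h x y = 0) (hP : Module.finrank F P = 2)
    (hP' : ∀ x ∈ P, ∀ y ∈ P, h x y = 0) :
    ∃ x : Cfsg.SU 4 F q, (∀ v ∈ P, mat x *ᵥ v ∈ P₀) ∧ ∀ w ∈ P₀, mat x⁻¹ *ᵥ w ∈ P := by
  let b₀ := Module.finBasisOfFinrankEq F P₀ h₀
  let b := Module.finBasisOfFinrankEq F P hP
  let s : Fin 2 → Fin 4 → F := fun i => b i
  let t : Fin 2 → Fin 4 → F := fun i => b₀ i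
  have hsli : LinearIndependent F s := b.linearIndependent.map' P.subtype P.ker_subtype
  have htli : LinearIndependent F t := b₀.linearIndependent.map' P₀.subtype P₀.ker_subtype
  obtain ⟨g, hg⟩ := exists_gram hF s t hsli htli
    (fun i j => by rw [hP' _ (b i).2 _ (b j).2, h₀' _ (b₀ i).2 _ (b₀ j).2])
  have hgP : ∀ v ∈ P, g.1.1 *ᵥ v ∈ P₀ := by
    intro v hv
    have : v = ∑ i, b.equivFun ⟨v, hv⟩ i • s i := by
      refine (congrArg Subtype.val (b.sum_equivFun ⟨v, hv⟩)).symm.trans ?_
      rw [Submodule.coe_sum]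
      rfl
    rw [this, Matrix.mulVec_sum]
    refine Submodule.sum_mem _ fun i _ => ?_
    rw [mulVec_smul, hg]
    exact P₀.smul_mem _ (b₀ i).2
  have ht0 : (b₀ 0 : Fin 4 → F) ≠ 0 := fun h0 => b₀.ne_zero 0 (Subtype.ext h0)
  have hd : g.1.1.det * σ g.1.1.det = 1 := det_norm hF g
  obtain ⟨D, hDd, hD⟩ := det_fix hF ht0 (h₀' _ (b₀ 0).2 _ (b₀ 0).2) (d := σ g.1.1.det)
    (by rw [frob_frob, mul_comm]; exact hd)
  obtain ⟨x, hx⟩ := exists_su hF (D * g) (by
    show (D.1.1 * g.1.1).det = 1
    rw [det_mul, hDd, mul_comm]; exact hd)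
  have hxP : ∀ v ∈ P, mat x *ᵥ v ∈ P₀ := by
    intro v hv
    rw [hx]
    show (D.1.1 * g.1.1) *ᵥ v ∈ P₀
    rw [← mulVec_mulVec]
    obtain ⟨r, hr⟩ := hD _ (h₀' _ (hgP v hv) _ (b₀ 0).2)
    rw [hr]
    exact add_mem (hgP v hv) (P₀.smul_mem r (b₀ 0).2)
  refine ⟨x, hxP, fun w hw => ?_⟩
  have hinj : Function.Injective (Matrix.toLin' (mat x)) := fun a c hac => by
    have := congrArg (mat x⁻¹ *ᵥ ·) hac
    simp only [Matrix.toLin'_apply] at hac
    rw [← mat_inv_mulVec' x a, hac, mat_inv_mulVec']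
  have heq : P.map (Matrix.toLin' (mat x)) = P₀ := by
    refine Submodule.eq_of_le_of_finrank_eq ?_ ?_
    · rintro _ ⟨v, hv, rfl⟩
      exact hxP v hv
    · rw [LinearEquiv.finrank_eq (Submodule.equivMapOfInjective _ hinj P).symm, hP, h₀]
  rw [← heq] at hw
  obtain ⟨v, hv, rfl⟩ := hw
  rw [Matrix.toLin'_apply, mat_inv_mulVec']
  exact hv

theorem covered : Covered (Cfsg.PSU 4 F q) := by
  let e : Fin 4 → F := Pi.single ⟨0, by norm_num⟩ 1
  let L := F ∙ e
  obtain ⟨t, ht⟩ := exists_norm_eq hF (c := -1) (by rw [map_neg, map_one])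
  have ht0 : t ≠ 0 := fun h0 => by rw [h0, zero_mul] at ht; exact one_ne_zero (neg_eq_zero.mp ht.symm)
  have ht' : t * t ^ q = -1 := by rw [← frob_apply hF]; exact ht
  have hq : q ≠ 0 := by have := SUCover.q_gt_one hF; omega
  let P₀ := Submodule.span F (Set.range ![![1, t, 0, 0], ![0, 0, 1, t]])
  let P₁ := Submodule.span F (Set.range ![![1, 0, t, 0], ![0, 1, 0, t]])
  have hfr : ∀ a b : Fin 4 → F, LinearIndependent F ![a, b] → h a a = 0 → h b b = 0 → h a b = 0 →
      Module.finrank F (Submodule.span F (Set.range ![a, b])) = 2 ∧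
        ∀ x ∈ Submodule.span F (Set.range ![a, b]), ∀ y ∈ Submodule.span F (Set.range ![a, b]), h x y = 0 := by
    intro a b hab haa hbb h12
    refine ⟨by rw [finrank_span_eq_card hab, Fintype.card_fin], ?_⟩
    have h21 : h b a = 0 := by rw [← h_swap hF, h12, map_zero]
    exact fun x hx y hy => IsotropicCount.herm_span2 hF _ (by
      rintro _ ⟨i, rfl⟩ _ ⟨j, rfl⟩
      fin_cases i <;> fin_cases j <;> simp [haa, hbb, h12, h21]) x hx y hy
  have h₀ := hfr ![1, t, 0, 0] ![0, 0, 1, t]
    (LinearIndependent.pair_iff.mpr fun a b hab => by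
      have e0 := congrFun hab 0; have e2 := congrFun hab 2
      simp at e0 e2; exact ⟨e0, e2⟩)
    (by simp [Cfsg.hermForm, Fin.sum_univ_four, ht', zero_pow hq])
    (by simp [Cfsg.hermForm, Fin.sum_univ_four, ht', zero_pow hq])
    (by simp [Cfsg.hermForm, Fin.sum_univ_four, zero_pow hq])
  have h₁ := hfr ![1, 0, t, 0] ![0, 1, 0, t]
    (LinearIndependent.pair_iff.mpr fun a b hab => by
      have e0 := congrFun hab 0; have e2 := congrFun hab 1
      simp at e0 e2; exact ⟨e0, e2⟩)
    (by simp [Cfsg.hermForm, Fin.sum_univ_four, ht', zero_pow hq])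
    (by simp [Cfsg.hermForm, Fin.sum_univ_four, ht', zero_pow hq])
    (by simp [Cfsg.hermForm, Fin.sum_univ_four, zero_pow hq])
  have hee : ∀ i j : Fin 4, h (Pi.single i 1) (Pi.single j 1) = if i = j then 1 else 0 := fun i j => by
    rw [UnitaryOrder.herm_single_right hF, Pi.single_apply]
    simp [eq_comm]
  refine covered_quotient _ (stab L) (stab P₀) ?_ ?_ (center_le_stab hF (by norm_num) _)
    (center_le_stab hF (by norm_num) _) fun g => ?_
  · intro htop
    let v : Fin 4 → F := Pi.single 1 1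
    obtain ⟨x, r, hx⟩ := line_trans hF (n := 4) (by norm_num) (v := v) (by rw [hee]; simp)
    have hm : x⁻¹ ∈ stab L := by rw [htop]; exact Subgroup.mem_top _
    have h2 := hm (r • e) (L.smul_mem r (Submodule.mem_span_singleton_self e))
    rw [← hx, mat_inv_mulVec'] at h2
    obtain ⟨a, ha⟩ := Submodule.mem_span_singleton.mp h2
    have := congrFun ha 1
    simp [e, v] at this
  · intro htop
    obtain ⟨x, -, hx2⟩ := plane_trans hF h₀.1 h₀.2 h₁.1 h₁.2
    have hm : x⁻¹ ∈ stab P₀ := by rw [htop]; exact Subgroup.mem_top _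
    have hle : P₀ ≤ P₁ := by
      intro w hw
      have hm' : x ∈ stab P₀ := by rw [htop]; exact Subgroup.mem_top _
      have := hx2 _ (hm' w hw)
      rwa [mat_inv_mulVec'] at this
    have hmem : (![1, t, 0, 0] : Fin 4 → F) ∈ P₁ := hle (Submodule.subset_span ⟨0, rfl⟩)
    obtain ⟨c, hc⟩ := (Submodule.mem_span_range_iff_exists_fun F).mp hmem
    have e0 := congrFun hc 0; have e2 := congrFun hc 2
    simp [Fin.sum_univ_two, ht0] at e0 e2
    simp [e2] at e0
  · rcases good4 hF g with ⟨v, r, hv, hgv⟩ | ⟨P, hP, hP', hgP⟩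
    · obtain ⟨x, s, hx⟩ := line_trans hF (n := 4) (by norm_num) hv
      refine ⟨x, Or.inl (conj_mem (U := F ∙ v) ?_ ?_ ?_)⟩
      · intro w hw
        obtain ⟨a, rfl⟩ := Submodule.mem_span_singleton.mp hw
        rw [mulVec_smul, hgv, smul_smul]
        exact Submodule.smul_mem _ _ (Submodule.mem_span_singleton_self v)
      · intro w hw
        obtain ⟨a, rfl⟩ := Submodule.mem_span_singleton.mp hw
        have hs : s ≠ 0 := by
          rintro rfl
          have := mat_inv_mulVec' x v
          rw [hx, zero_smul, mulVec_zero] at this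
          exact hv (by rw [← this]; simp [Cfsg.hermForm])
        have he : e = s⁻¹ • (mat x *ᵥ v) := by rw [hx, smul_smul, inv_mul_cancel₀ hs, one_smul]
        rw [he, mulVec_smul, mulVec_smul, mat_inv_mulVec', smul_smul]
        exact Submodule.smul_mem _ _ (Submodule.mem_span_singleton_self v)
      · intro w hw
        obtain ⟨a, rfl⟩ := Submodule.mem_span_singleton.mp hw
        rw [mulVec_smul, hx, smul_smul]
        exact Submodule.smul_mem _ _ (Submodule.mem_span_singleton_self e)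
    · obtain ⟨x, hx1, hx2⟩ := plane_trans hF h₀.1 h₀.2 hP hP'
      exact ⟨x, Or.inr (conj_mem hgP hx2 hx1)⟩

end CfsgLib.NormalCover.U4
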