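import Cfsg.Agent.Lib.NormalCover.Basic
import Cfsg.Agent.Lib.IsotropicHerm
import Cfsg.Agent.Lib.SUCover.Basic

/-!
Tools for unitary coverings: Witt transitivity inside `SU`, stabilisers of subspaces, and two-dimensional isometries.
-/

set_option autoImplicit false
set_option linter.unusedSectionVars false

namespace CfsgLib.NormalCover.Unitary

open Matrix CfsgLib.UnitaryTransvection
open CfsgLib.UnitarySimple (mat mkSU mat_mul mat_one su_h)

universe u

variable {F : Type u} [Field F] [Fintype F] {q n : ℕ} (hF : Fintype.card F = q ^ 2)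

local notation "σ" => frob hF
local notation "h" => Cfsg.hermForm n F q

include hF

theorem h_zero_left (x : Fin n → F) : h 0 x = 0 := by simp [Cfsg.hermForm]

theorem h_sum_left {ι : Type*} (s : Finset ι) (f : ι → Fin n → F) (y : Fin n → F) :
    h (∑ i ∈ s, f i) y = ∑ i ∈ s, h (f i) y := by
  classical
  induction s using Finset.induction with
  | empty => simp [h_zero_left hF]
  | insert a s ha ih => rw [Finset.sum_insert ha, Finset.sum_insert ha, h_add_left, ih]

theorem h_sum_right {ι : Type*} (s : Finset ι) (x : Fin n → F) (f : ι → Fin n → F) :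
    h x (∑ i ∈ s, f i) = ∑ i ∈ s, h x (f i) := by
  rw [← h_swap hF, h_sum_left hF, map_sum]
  exact Finset.sum_congr rfl fun i _ => h_swap hF _ _

theorem exists_hilbert {d : F} (hd : d * σ d = 1) : ∃ α : F, α ≠ 0 ∧ d * σ α = α := by
  obtain ⟨γ, hγ⟩ : ∃ γ : F, γ + d * σ γ ≠ 0 := by
    by_contra hc
    push Not at hc
    apply frob_ne_id hF
    refine RingHom.ext fun a => ?_
    have h1 := hc 1
    have h2 := hc a
    rw [map_one, mul_one] at h1
    show σ a = a
    linear_combination -h2 + σ a * h1
  refine ⟨γ + d * σ γ, hγ, ?_⟩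
  rw [map_add, map_mul, frob_frob]
  linear_combination γ * hd

theorem det_norm (g : Cfsg.GU n F q) : g.1.1.det * σ g.1.1.det = 1 := by
  have hd0 := UnitaryBasic.det_pow hF g.2
  rw [frob_apply, ← pow_succ']
  simpa using congrArg Units.val hd0

theorem exists_su (g : Cfsg.GU n F q) (hd : g.1.1.det = 1) : ∃ s : Cfsg.SU n F q, mat s = g.1.1 :=
  ⟨mkSU g.1.1 g.2 hd, rfl⟩

/-- Witt's theorem for finite independent families. -/
theorem exists_gram {k : ℕ} (s t : Fin k → Fin n → F) (hs : LinearIndependent F s) (ht : LinearIndependent F t)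
    (hst : ∀ i j, h (s i) (s j) = h (t i) (t j)) : ∃ g : Cfsg.GU n F q, ∀ i, g.1.1 *ᵥ s i = t i := by
  let b := Module.Basis.span hs
  let φ := b.constr F t
  have hb : ∀ i, (b i : Fin n → F) = s i := fun i => congrArg Subtype.val (Module.Basis.span_apply hs i) |>.trans rfl
  have hinj : Function.Injective φ := by
    rw [injective_iff_map_eq_zero]
    intro x hx
    rw [Module.Basis.constr_apply_fintype] at hx
    have := Fintype.linearIndependent_iff.mp ht _ hx
    exact b.equivFun.injective (funext fun i => (this i).trans (by simp))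
  have hexp : ∀ (c d : Fin k → F) (f : Fin k → Fin n → F),
      h (∑ i, c i • f i) (∑ j, d j • f j) = ∑ i, ∑ j, c i * (σ (d j) * h (f i) (f j)) := by
    intro c d f
    simp only [h_sum_left hF, h_smul_left, h_sum_right hF, h_smul_right hF, Finset.mul_sum]
    exact Finset.sum_congr rfl fun i _ => Finset.sum_congr rfl fun j _ => by ring
  have hx : ∀ x : ↥(Submodule.span F (Set.range s)), (x : Fin n → F) = ∑ i, b.equivFun x i • s i := fun x => by
    conv_lhs => rw [← b.sum_equivFun x]
    rw [Submodule.coe_sum]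
    exact Finset.sum_congr rfl fun i _ => by rw [Submodule.coe_smul, hb]
  obtain ⟨g, hg⟩ := IsotropicCount.herm_extend hF _ φ hinj (fun x x' => by
    rw [Module.Basis.constr_apply_fintype, Module.Basis.constr_apply_fintype, hx x, hx x', hexp, hexp]
    simp only [hst])
  exact ⟨g, fun i => by rw [← hb, hg, Module.Basis.constr_basis]⟩

/-- Anisotropic lines are conjugate under `SU`. -/
theorem line_trans (hn : 2 ≤ n) {v : Fin n → F} (hv : h v v ≠ 0) :
    ∃ x : Cfsg.SU n F q, ∃ r : F, mat x *ᵥ v = r • Pi.single ⟨0, by omega⟩ 1 := by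
  let i₀ : Fin n := ⟨0, by omega⟩
  let i₁ : Fin n := ⟨1, by omega⟩
  have h01 : i₁ ≠ i₀ := fun e => by simpa [i₀, i₁] using congrArg Fin.val e
  let e0 : Fin n → F := Pi.single i₀ 1
  let e1 : Fin n → F := Pi.single i₁ 1
  have hee : ∀ i j : Fin n, h (Pi.single i 1) (Pi.single j 1) = if i = j then 1 else 0 := fun i j => by
    rw [UnitaryOrder.herm_single_right hF, Pi.single_apply]
    simp [eq_comm]
  obtain ⟨r, hr⟩ := exists_norm_eq hF (c := h v v) (h_swap hF v v)
  obtain ⟨g, hg⟩ := exists_gram hF ![v] ![r • e0]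
    (by
      refine LinearIndependent.of_subsingleton 0 ?_
      intro h0
      simp at h0
      exact hv (by rw [h0, h_zero_left hF]))
    (by
      refine LinearIndependent.of_subsingleton 0 ?_
      intro h0
      simp [e0] at h0
      exact hv (by rw [← hr, h0, zero_mul]))
    (by
      intro i j
      fin_cases i; fin_cases j
      simp only [Matrix.cons_val_zero, Fin.zero_eta]
      rw [h_smul_left, h_smul_right hF, hee, if_pos rfl, mul_one, hr])
  have hg0 : g.1.1 *ᵥ v = r • e0 := hg 0
  set d := g.1.1.det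
  have hd : d * σ d = 1 := det_norm hF g
  have hgood : Good hF e1 (σ d - 1) := by
    unfold Good
    rw [hee, if_pos rfl, map_sub, map_one, frob_frob, mul_one]
    linear_combination hd
  obtain ⟨s, hs⟩ := exists_su hF (tg hF e1 (σ d - 1) hgood * g) (by
    show ((tg hF e1 (σ d - 1) hgood).1.1 * g.1.1).det = 1
    rw [det_mul, det_tg, hee, if_pos rfl]
    linear_combination hd)
  refine ⟨s, r, ?_⟩
  rw [hs]
  show ((tg hF e1 (σ d - 1) hgood).1.1 * g.1.1) *ᵥ v = _
  rw [← mulVec_mulVec, hg0, mulVec_smul, tg_mulVec, hee, if_neg h01.symm, mul_zero, zero_smul, add_zero]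

/-- Elements of any determinant fixing every totally isotropic subspace through a vector. -/
theorem det_fix {v : Fin n → F} (hv0 : v ≠ 0) (hv : h v v = 0) {d : F} (hd : d * σ d = 1) :
    ∃ g : Cfsg.GU n F q, g.1.1.det = d ∧ ∀ x, h x v = 0 → ∃ r : F, g.1.1 *ᵥ x = x + r • v := by
  obtain ⟨y, hvy, hyv⟩ := UnitarySimple.exists_partner hF hv0
  obtain ⟨e, he⟩ := exists_trace_one hF
  obtain ⟨α, hα, hαd⟩ := exists_hilbert hF hd
  set w := y + (-(h y y) * e) • v with hw
  have hyy : σ (h y y) = h y y := h_swap hF y y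
  have hww : h w w = 0 := by
    rw [hw, h_add_left, h_add_right hF, h_add_right hF, h_smul_left, h_smul_left, h_smul_right hF,
      h_smul_right hF, hv, hvy, hyv, map_mul, map_neg, hyy]
    linear_combination (-(h y y)) * he
  have hvw : h v w = 1 := by rw [hw, h_add_right hF, h_smul_right hF, hv, hvy, mul_zero, add_zero]
  have hwv : h w v = 1 := by rw [← h_swap hF, hvw, map_one]
  have hσα : σ α ≠ 0 := fun h0 => hα (by rw [← frob_frob hF α, h0, map_zero])
  set β := (σ α)⁻¹ with hβ
  let T₁ := 1 + vecMulVec ((α - 1) • v) (fun i => w i ^ q)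
  let T₂ := 1 + vecMulVec ((β - 1) • w) (fun i => v i ^ q)
  have hT : ∀ x, (T₁ * T₂) *ᵥ x = x + ((α - 1) * h x w) • v + ((β - 1) * h x v) • w := by
    intro x
    have eM : ∀ (a : F) (u z x : Fin n → F), (1 + vecMulVec (a • u) (fun i => z i ^ q)) *ᵥ x = x + (a * h x z) • u := by
      intro a u z x
      rw [add_mulVec, one_mulVec, vecMulVec_mulVec, op_smul_eq_smul, smul_smul,
        show (fun i => z i ^ q) ⬝ᵥ x = h x z from dotProduct_comm _ _, mul_comm]
    rw [← mulVec_mulVec, eM, eM, h_add_left, h_smul_left, hww, mul_zero, add_zero, add_right_comm]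
  have hiso : ∀ x z, h ((T₁ * T₂) *ᵥ x) ((T₁ * T₂) *ᵥ z) = h x z := by
    intro x z
    have e1 : α * σ β = 1 := by rw [hβ, map_inv₀, frob_frob, mul_inv_cancel₀ hα]
    have e2 : β * σ α = 1 := by rw [hβ, inv_mul_cancel₀ hσα]
    rw [hT, hT]
    simp only [h_add_left, h_add_right hF, h_smul_left, h_smul_right hF, hv, hww, hvw, hwv, map_mul, map_sub,
      map_one, h_swap hF]
    linear_combination h x w * h v z * e1 + h x v * h w z * e2
  refine ⟨mkGU hF (T₁ * T₂) hiso, ?_, fun x hx => ⟨(α - 1) * h x w, ?_⟩⟩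
  · show (T₁ * T₂).det = d
    have eD : ∀ (a : F) (u z : Fin n → F), (1 + vecMulVec (a • u) (fun i => z i ^ q)).det = 1 + a * h u z := by
      intro a u z
      rw [vecMulVec_eq Unit, det_one_add_replicateCol_mul_replicateRow, dotProduct_smul, smul_eq_mul,
        show (fun i => z i ^ q) ⬝ᵥ u = h u z from dotProduct_comm _ _]
    rw [det_mul, eD, eD, hvw, hwv, hβ]
    field_simp
    linear_combination -hαd
  · show (T₁ * T₂) *ᵥ x = _
    rw [hT, hx, mul_zero, zero_smul, add_zero]

omit hF in
/-- The stabiliser of a subspace. -/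
def stab (U : Submodule F (Fin n → F)) : Subgroup (Cfsg.SU n F q) where
  carrier := {g | ∀ x ∈ U, mat g *ᵥ x ∈ U}
  mul_mem' {a b} ha hb x hx := by rw [mat_mul, ← mulVec_mulVec]; exact ha _ (hb x hx)
  one_mem' x hx := by rw [mat_one, one_mulVec]; exact hx
  inv_mem' {a} ha x hx := by
    obtain ⟨k, hk⟩ : ∃ k : ℕ, a⁻¹ = a ^ k :=
      ⟨orderOf a - 1, inv_eq_of_mul_eq_one_right (by
        rw [← pow_succ', Nat.sub_add_cancel (orderOf_pos a), pow_orderOf_eq_one])⟩
    rw [hk]
    clear hk
    induction k generalizing x with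
    | zero => rw [pow_zero, mat_one, one_mulVec]; exact hx
    | succ k ih => rw [pow_succ, mat_mul, ← mulVec_mulVec]; exact ih _ (ha x hx)

omit hF in
/-- Conjugation carries stabilisers. -/
theorem conj_mem {U W : Submodule F (Fin n → F)} {g x : Cfsg.SU n F q}
    (hU : ∀ v ∈ U, mat g *ᵥ v ∈ U) (hW : ∀ w ∈ W, mat x⁻¹ *ᵥ w ∈ U) (hU' : ∀ v ∈ U, mat x *ᵥ v ∈ W) :
    x * g * x⁻¹ ∈ stab W := fun w hw => by
  rw [mat_mul, mat_mul, ← mulVec_mulVec, ← mulVec_mulVec]
  exact hU' _ (hU _ (hW w hw))

theorem center_le_stab (hn : 3 ≤ n) (U : Submodule F (Fin n → F)) :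
    Subgroup.center (Cfsg.SU n F q) ≤ stab U := by
  intro g hg x hx
  obtain ⟨c, hc⟩ := SUCover.center_scalar hF hn hg
  have : mat g *ᵥ x = c • x := by
    rw [hc]
    funext i
    simp [mulVec_diagonal]
  rw [this]
  exact U.smul_mem c hx

/-- `y ↦ y - y²` hits all fixed elements. -/
theorem exists_root_quad {c : F} (hc : σ c = c) : ∃ y : F, y ^ 2 - y + c = 0 := by
  classical
  by_contra hno
  push Not at hno
  let S₀ : Finset F := Finset.univ.filter fun y => σ y = y
  let S₁ : Finset F := Finset.univ.filter fun y => σ y + y = 1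
  obtain ⟨e, he⟩ := exists_trace_one hF
  obtain ⟨c₀, hc₀, hc₀'⟩ := exists_skew hF
  have hcard : S₀.card = S₁.card := by
    refine Finset.card_nbij' (fun y => e + c₀ * y) (fun y => (y - e) / c₀) ?_ ?_ ?_ ?_
    · intro y hy
      simp only [S₀, S₁, Finset.coe_filter, Finset.mem_univ, true_and, Set.mem_ofPred_eq] at hy ⊢
      rw [map_add, map_mul, hy]
      linear_combination he + y * hc₀'
    · intro y hy
      simp only [S₀, S₁, Finset.coe_filter, Finset.mem_univ, true_and, Set.mem_ofPred_eq] at hy ⊢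
      rw [map_div₀, map_sub, eq_neg_of_add_eq_zero_right hc₀']
      field_simp
      linear_combination -hy + he
    · intro y _
      field_simp
      ring
    · intro y _
      field_simp
      ring
  have hinter : (S₀ ∩ S₁).card ≤ 1 := by
    rw [Finset.card_le_one]
    intro a ha b hb
    simp only [S₀, S₁, Finset.mem_inter, Finset.mem_filter, Finset.mem_univ, true_and] at ha hb
    have h1 : 2 * a = 1 := by linear_combination ha.2 - ha.1
    have h2 : 2 * b = 1 := by linear_combination hb.2 - hb.1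
    have h20 : (2 : F) ≠ 0 := fun h0 => by rw [h0, zero_mul] at h1; exact zero_ne_one h1
    exact mul_left_cancel₀ h20 (h1.trans h2.symm)
  have hmaps : ∀ y ∈ S₀ ∪ S₁, y - y ^ 2 ∈ S₀.erase c := by
    intro y hy
    simp only [S₀, S₁, Finset.mem_union, Finset.mem_filter, Finset.mem_univ, true_and] at hy
    rw [Finset.mem_erase]
    refine ⟨fun h0 => hno y (by linear_combination -h0), ?_⟩
    simp only [S₀, Finset.mem_filter, Finset.mem_univ, true_and, map_sub, map_pow]
    rcases hy with hy | hy
    · rw [hy]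
    · rw [eq_sub_of_add_eq hy]; ring
  have hle := Finset.card_le_mul_card_image_of_maps_to (f := fun y : F => y - y ^ 2) hmaps 2 (fun a _ => by
    by_contra h2
    push Not at h2
    obtain ⟨x, y, z, hx, hy, hz, hxy, hxz, hyz⟩ := Finset.two_lt_card_iff.mp h2
    simp only [Finset.mem_filter] at hx hy hz
    have e1 : (x - y) * (1 - x - y) = 0 := by linear_combination hx.2 - hy.2
    have e2 : (x - z) * (1 - x - z) = 0 := by linear_combination hx.2 - hz.2
    have e1' := (mul_eq_zero.mp e1).resolve_left (sub_ne_zero.mpr hxy)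
    have e2' := (mul_eq_zero.mp e2).resolve_left (sub_ne_zero.mpr hxz)
    exact hyz (by linear_combination e2' - e1'))
  have hcS : c ∈ S₀ := by simp [S₀, hc]
  have := Finset.card_union_add_card_inter S₀ S₁
  rw [Finset.card_erase_of_mem hcS] at hle
  have := Finset.card_pos.mpr ⟨c, hcS⟩
  omega

theorem isSquare_of_norm {a : F} (ha : a * σ a = 1) : ∃ x : F, x ^ 2 = a := by
  by_cases h2 : (2 : F) = 0
  · haveI : CharP F 2 := CharTwo.of_one_ne_zero_of_two_eq_zero one_ne_zero h2
    exact (Finite.injective_iff_bijective.mp (frobenius_inj F 2)).2 a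
  obtain ⟨α, hα, hαd⟩ := exists_hilbert hF ha
  have hodd : Odd q := by
    rcases Nat.even_or_odd q with he | ho
    · exfalso
      apply h2
      have h0 : ((Fintype.card F : ℕ) : F) = 0 := Nat.cast_card_eq_zero F
      obtain ⟨k, rfl⟩ := he
      rw [hF] at h0
      push_cast at h0
      have : ((k : F) + k) = 0 := pow_eq_zero_iff two_ne_zero |>.mp h0
      by_contra h2'
      have hk : (k : F) = 0 := (mul_eq_zero.mp (by linear_combination this : (2 : F) * k = 0)).resolve_left h2'
      obtain ⟨p, hp⟩ := CharP.exists F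
      obtain ⟨d, hpp, hcard⟩ := FiniteField.card F p
      have hpk : p ∣ k := (CharP.cast_eq_zero_iff F p k).mp hk
      have : 2 ∣ p ^ (d : ℕ) := ⟨2 * k ^ 2, by rw [← hcard, hF]; ring⟩
      have hp2 : p = 2 := ((Nat.prime_dvd_prime_iff_eq Nat.prime_two hpp).mp (Nat.prime_two.dvd_of_dvd_pow this)).symm
      subst hp2
      exact h2' (by exact_mod_cast CharP.cast_eq_zero F 2)
    · exact ho
  obtain ⟨k, hk⟩ := hodd
  have hαk : α ^ k ≠ 0 := pow_ne_zero _ hα
  refine ⟨(α ^ k)⁻¹, mul_right_cancel₀ (pow_ne_zero q hα) ?_⟩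
  rw [← frob_apply hF, hαd, frob_apply, hk]
  field_simp
  ring

/-- A two-dimensional isometry of a non-degenerate plane has an eigenvector. -/
theorem two_dim_eigen (U : Submodule F (Fin n → F)) (hU : Module.finrank F U = 2) (T : Module.End F U)
    (hT : ∀ x y : U, h (T x : Fin n → F) (T y) = h (x : Fin n → F) y)
    (hnd : ∀ x : U, (∀ y : U, h (x : Fin n → F) y = 0) → x = 0) :
    ∃ (x : U) (r : F), x ≠ 0 ∧ T x = r • x := by
  by_contra hno
  push Not at hno
  obtain ⟨u, hu⟩ : ∃ u : U, u ≠ 0 :=
    haveI : Nontrivial U := Module.nontrivial_of_finrank_pos (R := F) (by omega)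
    exists_ne (0 : U)
  have hind : LinearIndependent F ![u, T u] := by
    rw [LinearIndependent.pair_iff' hu]
    exact fun a ha => hno u a hu ha.symm
  let b := basisOfLinearIndependentOfCardEqFinrank hind (by rw [Fintype.card_fin, hU])
  obtain ⟨t, d', htd⟩ : ∃ t d' : F, T (T u) = t • T u - d' • u := by
    refine ⟨b.equivFun (T (T u)) 1, -b.equivFun (T (T u)) 0, ?_⟩
    conv_lhs => rw [← b.sum_equivFun (T (T u))]
    simp [b, Fin.sum_univ_two]
    module
  set a := h (u : Fin n → F) u with ha
  set c := h (T u : Fin n → F) u with hc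
  have hσa : σ a = a := h_swap hF _ _
  have hσc : σ c = h (u : Fin n → F) (T u) := h_swap hF _ _
  have ha' : h (T u : Fin n → F) (T u) = a := hT u u
  have htd' : ((T (T u) : U) : Fin n → F) = t • (T u : Fin n → F) - d' • (u : Fin n → F) := by
    rw [htd]; rfl
  have e1 : c = t * a - d' * σ c := by
    have := hT (T u) u
    rw [htd', h_sub_left, h_smul_left, h_smul_left, ha', ← hσc] at this
    exact this.symm
  have e2 : t * σ t * a + d' * σ d' * a - t * σ d' * c - d' * σ t * σ c = a := by
    have := (hT (T u) (T u)).trans ha'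
    rw [htd', h_sub_left, h_sub_right hF, h_sub_right hF, h_smul_left, h_smul_left, h_smul_left, h_smul_left,
      h_smul_right hF, h_smul_right hF, h_smul_right hF, h_smul_right hF, ha', ← hc, ← hσc, ← ha] at this
    linear_combination this
  have e1' : σ c = σ t * a - σ d' * c := by
    conv_lhs => rw [e1]
    rw [map_sub, map_mul, map_mul, hσa, frob_frob]
  have hdet : a * a - c * σ c ≠ 0 := by
    intro h0
    have hz : ∀ z : U, (h (z : Fin n → F) u = 0 ∧ h (z : Fin n → F) (T u) = 0) → z = 0 := by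
      intro z hz
      refine hnd z fun y => ?_
      rw [← b.sum_equivFun y]
      simp [b, Fin.sum_univ_two, h_add_right hF, h_smul_right hF, hz.1, hz.2]
    have hz0 : c • u - a • T u = 0 := by
      refine hz _ ⟨?_, ?_⟩
      · rw [Submodule.coe_sub, Submodule.coe_smul, Submodule.coe_smul, h_sub_left, h_smul_left, h_smul_left]
        ring
      · rw [Submodule.coe_sub, Submodule.coe_smul, Submodule.coe_smul, h_sub_left, h_smul_left, h_smul_left, ha',
          ← hσc]
        linear_combination -h0
    have h2 := LinearIndependent.pair_iff.mp hind c (-a) (by rw [neg_smul, ← sub_eq_add_neg]; exact hz0)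
    exact hu (hz u ⟨neg_eq_zero.mp h2.2, by rw [← hσc, h2.1, map_zero]⟩)
  set N := d' * σ d'
  have e3 : c * (1 - N) = a * (t - d' * σ t) := by linear_combination e1 - d' * e1'
  have e3' : σ c * (1 - N) = a * (σ t - σ d' * t) := by linear_combination e1' - σ d' * e1
  have e4 : a * (N - 1) = c * (t * σ d' - σ t) := by linear_combination e2 + σ t * e1
  have hN : N = 1 := by
    have : (a * a - c * σ c) * (N - 1) = 0 := by linear_combination a * e4 + c * e3'
    exact sub_eq_zero.mp ((mul_eq_zero.mp this).resolve_left hdet)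
  have ht : t = d' * σ t := by
    by_cases ha0 : a = 0
    · have hc0 : c ≠ 0 := fun h0 => hdet (by rw [ha0, h0]; ring)
      have : c * (t * σ d' - σ t) = 0 := by rw [← e4, ha0, zero_mul]
      have h5 := (mul_eq_zero.mp this).resolve_left hc0
      linear_combination d' * h5 - t * hN
    · have : a * (t - d' * σ t) = 0 := by rw [← e3, hN]; ring
      exact sub_eq_zero.mp ((mul_eq_zero.mp this).resolve_left ha0)
  obtain ⟨r, hr⟩ : ∃ r : F, r ^ 2 - t * r + d' = 0 := by
    by_cases ht0 : t = 0
    · obtain ⟨r, hr⟩ := isSquare_of_norm hF (a := -d') (by rw [map_neg]; linear_combination hN)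
      exact ⟨r, by rw [hr, ht0]; ring⟩
    · have hσt : σ t ≠ 0 := fun h0 => ht0 (by rw [← frob_frob hF t, h0, map_zero])
      obtain ⟨y, hy⟩ := exists_root_quad hF (c := d' / t ^ 2) (by
        rw [map_div₀, map_pow, div_eq_div_iff (pow_ne_zero 2 hσt) (pow_ne_zero 2 ht0)]
        linear_combination (σ d' * t + σ d' * d' * σ t) * ht + d' * σ t ^ 2 * hN)
      refine ⟨t * y, ?_⟩
      field_simp at hy
      linear_combination hy
  refine hno (T u - (t - r) • u) r ?_ ?_
  · intro h0
    exact hno u _ hu (sub_eq_zero.mp h0)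
  · rw [map_sub, map_smul, htd, smul_sub, smul_smul]
    have hd : d' = r * (t - r) := by linear_combination hr
    rw [hd]
    module

end CfsgLib.NormalCover.Unitary
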